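import Cfsg.Agent.Lib.M22.CoverPerm
import Cfsg.Prelude.Def_KGroupFacts
import Cfsg.Prelude.Def_Spor_Mathieu

/-!
A stem extension of M22 with cyclic kernel of order twelve.
-/

set_option autoImplicit false
set_option maxRecDepth 100000

namespace CfsgLib.M22

open Cfsg CfsgLib.Chev CfsgLib.Golay CfsgLib.Golay.SylowTwo CfsgLib.Schur
open scoped commutatorElement

attribute [local irreducible] idP toPerm mulP validP

/-- The orbit list of a level. -/
def lvPts (k : ℕ) : List (ℕ × ℕ) := (chainData.getD k (0, [], [])).2.2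

/-- The generators of a level. -/
def lvGens (k : ℕ) : List ℕ := (chainData.getD k (0, [], [])).2.1

/-- The base point of a level. -/
def lvBase (k : ℕ) : ℕ := (chainData.getD k (0, [], [])).1

/-- The Schreier data of a level. -/
def lvChecks (k : ℕ) : List (ℕ × ℕ × ℕ × List ℕ) :=
  [schreier0, schreier1, schreier2, schreier3, schreier4].getD k []

/-- The bookkeeping of one level. -/
noncomputable def levelChk (k : ℕ) : Bool :=
  decide (lvBase k < 24) && (lvGens k).all (fun g => decide (g < 7)) &&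
  (lvPts k).any (fun p => Nat.beq p.1 (lvBase k) && Nat.beq p.2 0) &&
  (lvPts k).all (fun p => decide (p.1 < 24) &&
    match p.2 with
    | 0 => Nat.beq p.1 (lvBase k)
    | i + 1 => decide (7 ≤ i ∧ i < 84) && Nat.beq (ap (elPrm i) (lvBase k)) p.1 &&
        (let d := elDef.getD (i - 7) (0, 0)
         decide (d.1 ∈ lvGens k) &&
           (decide (d.2 = 0) || decide (8 ≤ d.2 ∧ d.2 - 8 < i - 7) && (lvPts k).any fun q => Nat.beq q.2 d.2))) &&
  (lvPts k).all (fun p => (lvGens k).all fun g =>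
    (lvChecks k).any fun e => Nat.beq e.1 g && Nat.beq e.2.1 p.1) &&
  (lvChecks k).all (fun e => decide (e.1 < 7) && e.2.2.2.all fun i =>
    (List.range 5).any fun m => decide (k < m) && ((lvPts m).any fun q => Nat.beq q.2 (i + 1)) &&
      (lvGens m).all fun g => decide (g ∈ lvGens (k + 1)))

theorem levelChk_all : (List.range 5).all levelChk = true := by decide +kernel

theorem gens_zero : lvGens 0 = [0, 1] := by decide +kernel

/-- The element with a given index. -/
noncomputable def elem (n : ℕ) : Amb :=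
  if h : n < 7 then gen ⟨n, h⟩ else uEl (n - 7)

lemma rep_gen (j : Fin 7) : Rep j (gen j) := ⟨rfl, fun _ => rfl⟩

lemma rep_uEl : ∀ n, n < 77 → Rep (7 + n) (uEl n) := by
  intro n
  induction n using Nat.strong_induction_on with
  | _ n ih =>
    intro hn
    have h := List.all_eq_true.1 defChk_all n (List.mem_range.2 hn)
    have hdef : ∀ m < 77, (elDef.getD m (0, 0)).1 < 7 ∧ ((elDef.getD m (0, 0)).2 = 0 ∨
        (8 ≤ (elDef.getD m (0, 0)).2 ∧ (elDef.getD m (0, 0)).2 - 8 < m)) := by decide +kernel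
    obtain ⟨hg, hp⟩ := hdef n hn
    set g := (elDef.getD n (0, 0)).1
    set p := (elDef.getD n (0, 0)).2
    simp only [defChk, eqW, Bool.and_eq_true] at h
    have hfin : (⟨g % 7, Nat.mod_lt _ (by norm_num)⟩ : Fin 7) = ⟨g, hg⟩ :=
      Fin.ext (Nat.mod_eq_of_lt hg)
    obtain ⟨el, hel, hu⟩ : ∃ el : ℕ → Amb, (∀ a ∈ g :: uWord p, a < 92 ∧ Rep a (el a)) ∧
        uEl n = ((g :: uWord p).map el).prod := by
      rw [uEl_eq]
      rcases hp with hp | ⟨hp1, hp2⟩
      · refine ⟨fun _ => gen ⟨g, hg⟩, fun a ha => ?_, ?_⟩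
        · rw [hp] at ha
          simp only [uWord, List.mem_cons, List.not_mem_nil, or_false] at ha
          subst ha
          exact ⟨by omega, rep_gen ⟨g, hg⟩⟩
        · rw [dif_neg (by omega), hfin, hp]
          simp [uWord]
      · obtain ⟨i, hi⟩ : ∃ i, p = i + 1 := ⟨p - 1, by omega⟩
        refine ⟨fun a => if a = g then gen ⟨g, hg⟩ else uEl (a - 7), fun a ha => ?_, ?_⟩
        · rw [hi] at ha
          simp only [uWord, List.mem_cons, List.not_mem_nil, or_false] at ha
          rcases ha with e | e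
          · rw [e]
            exact ⟨by omega, by simpa using rep_gen ⟨g, hg⟩⟩
          · refine ⟨by omega, ?_⟩
            have hne : a ≠ g := by omega
            simp only [if_neg hne]
            have := ih (a - 7) (by omega) (by omega)
            rwa [show 7 + (a - 7) = a by omega] at this
        · rw [dif_pos ⟨hp1, hp2⟩, hfin, hi]
          simp only [uWord, List.map_cons, List.map_nil, List.prod_cons, List.prod_nil, mul_one,
            if_true]
          rw [if_neg (by omega), show (elDef.getD n (0, 0)).2 - 8 = i - 7 by omega]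
    obtain ⟨⟨hv, e1⟩, e2⟩ := rep_word el hel
    refine ⟨?_, fun s => ?_⟩
    · rw [hu, e1]
      have hv7 := (inG_spec (el_spec (n := 7 + n) (by omega)).1).1
      have hv' : validP (wPrm [7 + n]) = true := validP_mulP hv7 validP_idP
      rw [← toPerm_eq_of_eqP hv' hv h.1, show wPrm [7 + n] = mulP (elPrm (7 + n)) idP from rfl,
        toPerm_mulP hv7 validP_idP, toPerm_idP, mul_one]
    · rw [hu, e2]
      have := cEq_spec (by simp; omega) (fun a ha => (hel a ha).1) h.2 s.isLt
      rw [cShift_zero] at this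
      exact this.symm

lemma rep_elem {n : ℕ} (hn : n < 84) : Rep n (elem n) := by
  by_cases h : n < 7
  · rw [elem, dif_pos h]; exact rep_gen ⟨n, h⟩
  · rw [elem, dif_neg h]
    have := rep_uEl (n - 7) (by omega)
    rwa [show 7 + (n - 7) = n by omega] at this

/-- The transversal element of an orbit entry. -/
noncomputable def uOf (i : ℕ) : Amb := ((uWord i).map elem).prod

/-- The subgroup of a level. -/
noncomputable def lvH (k : ℕ) : Subgroup Amb :=
  Subgroup.closure ({a | ∃ g ∈ lvGens k, a = elem g} ∪ {Zel})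

lemma level_spec {k : ℕ} (hk : k < 5) :
    (lvBase k < 24 ∧ ∀ g ∈ lvGens k, g < 7) ∧
    (lvBase k, 0) ∈ lvPts k ∧
    (∀ p ∈ lvPts k, p.1 < 24 ∧ ((p.2 = 0 ∧ p.1 = lvBase k) ∨ ∃ i, p.2 = i + 1 ∧ 7 ≤ i ∧ i < 84 ∧
      ap (elPrm i) (lvBase k) = p.1 ∧ (elDef.getD (i - 7) (0, 0)).1 ∈ lvGens k ∧
        ((elDef.getD (i - 7) (0, 0)).2 = 0 ∨ (8 ≤ (elDef.getD (i - 7) (0, 0)).2 ∧
          (elDef.getD (i - 7) (0, 0)).2 - 8 < i - 7 ∧
            ∃ q ∈ lvPts k, q.2 = (elDef.getD (i - 7) (0, 0)).2)))) ∧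
    (∀ p ∈ lvPts k, ∀ g ∈ lvGens k, ∃ e ∈ lvChecks k, e.1 = g ∧ e.2.1 = p.1) ∧
    ∀ e ∈ lvChecks k, e.1 < 7 ∧ ∀ i ∈ e.2.2.2, ∃ m, k < m ∧ m < 5 ∧
      (∃ q ∈ lvPts m, q.2 = i + 1) ∧ ∀ g ∈ lvGens m, g ∈ lvGens (k + 1) := by
  have h := List.all_eq_true.1 levelChk_all k (List.mem_range.2 hk)
  simp only [levelChk, Bool.and_eq_true, List.all_eq_true, List.any_eq_true, decide_eq_true_eq,
    Nat.beq_eq] at h
  obtain ⟨⟨⟨⟨⟨h1, h2⟩, ⟨p0, hp0, e1, e2⟩⟩, h4⟩, h5⟩, h6⟩ := h
  refine ⟨⟨h1, h2⟩, ?_, fun p hp => ?_, fun p hp g hg => ?_, fun e he => ?_⟩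
  · rw [← e1]
    conv in (p0.1, 0) => rw [← e2]
    exact hp0
  · obtain ⟨a, b⟩ := h4 p hp
    refine ⟨a, ?_⟩
    obtain ⟨q, i⟩ := p
    cases i with
    | zero => exact Or.inl ⟨rfl, Nat.eq_of_beq_eq_true b⟩
    | succ i =>
      simp only [Bool.and_eq_true, Bool.or_eq_true, decide_eq_true_eq, List.any_eq_true,
        Nat.beq_eq] at b
      obtain ⟨⟨⟨b1, b2⟩, b3⟩, b4, b5⟩ := b
      refine Or.inr ⟨i, rfl, b1, b2, b3, b4, ?_⟩
      rcases b5 with b5 | ⟨⟨c1, c2⟩, c3⟩
      · exact Or.inl b5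
      · exact Or.inr ⟨c1, c2, c3⟩
  · obtain ⟨e, he, c1, c2⟩ := h5 p hp g hg
    exact ⟨e, he, c1, c2⟩
  · obtain ⟨c1, c2⟩ := h6 e he
    refine ⟨c1, fun i hi => ?_⟩
    obtain ⟨m, hm, ⟨c3, c4⟩, c5⟩ := c2 i hi
    exact ⟨m, c3, List.mem_range.1 hm, c4, c5⟩

lemma uEl_mem {m : ℕ} (hm : m < 5) : ∀ i, (∃ q ∈ lvPts m, q.2 = i + 1) →
    7 ≤ i ∧ i < 84 ∧ elem i ∈ lvH m := by
  intro i
  induction i using Nat.strong_induction_on with
  | _ i ih =>
    rintro ⟨q, hq, e⟩
    rcases ((level_spec hm).2.2.1 q hq).2 with ⟨h0, -⟩ | ⟨i', hi', h7, h84, -, hg, hp⟩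
    · omega
    obtain rfl : i' = i := by omega
    refine ⟨h7, h84, ?_⟩
    set g := (elDef.getD (i' - 7) (0, 0)).1
    set p := (elDef.getD (i' - 7) (0, 0)).2
    have hg7 := (level_spec hm).1.2 g hg
    have hmem : gen ⟨g % 7, Nat.mod_lt _ (by norm_num)⟩ ∈ lvH m := by
      refine Subgroup.subset_closure (Or.inl ⟨g, hg, ?_⟩)
      rw [elem, dif_pos hg7]
      congr 1
      exact Fin.ext (Nat.mod_eq_of_lt hg7)
    rw [elem, dif_neg (by omega), uEl_eq]
    rcases hp with hp | ⟨c1, c2, c3⟩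
    · rw [dif_neg (by omega), mul_one]; exact hmem
    · rw [dif_pos ⟨c1, c2⟩]
      refine mul_mem hmem ?_
      obtain ⟨q', hq', eq'⟩ := c3
      have h := (ih (p - 1) (by omega) ⟨q', hq', by omega⟩).2.2
      rwa [elem, dif_neg (by omega), show p - 1 - 7 = p - 8 by omega] at h

lemma schreier_ok {k : ℕ} (hk : k < 5) : ∀ e ∈ lvChecks k, schreierChk k e = true := by
  interval_cases k
  · exact fun e he => List.all_eq_true.1 schreierChk_0_0 e (by
      rw [show (schreier0.take 44).drop 0 = schreier0 by decide +kernel]; exact he)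
  · intro e he
    have : (schreier1.take 53).drop 0 ++ (schreier1.take 105).drop 53 = schreier1 := by
      decide +kernel
    have he' : e ∈ (schreier1.take 53).drop 0 ++ (schreier1.take 105).drop 53 := by
      rw [this]; exact he
    rcases List.mem_append.1 he' with h | h
    · exact List.all_eq_true.1 schreierChk_1_0 e h
    · exact List.all_eq_true.1 schreierChk_1_53 e h
  · exact fun e he => List.all_eq_true.1 schreierChk_2_0 e (by
      rw [show (schreier2.take 80).drop 0 = schreier2 by decide +kernel]; exact he)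
  · exact fun e he => List.all_eq_true.1 schreierChk_3_0 e he
  · exact fun e he => List.all_eq_true.1 schreierChk_4_0 e he

/-- The projection to the permutations of the points. -/
noncomputable def proj : Amb →* Equiv.Perm GolayPt := G22.subtype.comp (MonoidHom.fst _ _)

lemma proj_apply {n : ℕ} (hn : n < 84) {b : ℕ} (hb : b < 24) :
    proj (elem n) (pt b) = pt (ap (elPrm n) b) := by
  show ((elem n).1 : Equiv.Perm GolayPt) (pt b) = _
  rw [(rep_elem hn).1, toPerm_apply (inG_spec (el_spec (by omega)).1).1, idx_pt _ hb]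

lemma proj_Zel : proj Zel = 1 := rfl

lemma uOf_proj {k : ℕ} (hk : k < 5) {p : ℕ × ℕ} (hp : p ∈ lvPts k) :
    proj (uOf p.2) (pt (lvBase k)) = pt p.1 := by
  rcases ((level_spec hk).2.2.1 p hp).2 with ⟨h0, hb⟩ | ⟨i, hi, h7, h84, he, -, -⟩
  · rw [uOf, h0, hb]; simp [uWord]
  · rw [uOf, hi]
    simp only [uWord, List.map_cons, List.map_nil, List.prod_cons, List.prod_nil, mul_one]
    rw [proj_apply h84 (level_spec hk).1.1, he]

lemma word_ok {k : ℕ} (hk : k < 5) {p : ℕ × ℕ} (hp : p ∈ lvPts k) :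
    ∀ a ∈ uWord p.2, a < 92 ∧ Rep a (elem a) := by
  intro a ha
  rcases ((level_spec hk).2.2.1 p hp).2 with ⟨h0, -⟩ | ⟨i, hi, h7, h84, -, -, -⟩
  · rw [h0] at ha; simp [uWord] at ha
  · rw [hi] at ha
    simp only [uWord, List.mem_cons, List.not_mem_nil, or_false] at ha
    subst ha
    exact ⟨by omega, rep_elem h84⟩

theorem stab_step {k : ℕ} (hk : k < 5) :
    ∀ w ∈ lvH k, proj w (pt (lvBase k)) = pt (lvBase k) → w ∈ lvH (k + 1) := by
  classical
  obtain ⟨⟨hb, hg7⟩, hbase, hpts, hcov, hchk⟩ := level_spec hk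
  let P : Set GolayPt := {x | ∃ p ∈ lvPts k, x = pt p.1}
  let u : GolayPt → Amb := fun x => uOf ((findU (lvPts k) (idx x)).getD 0)
  have hfind : ∀ q j, findU (lvPts k) q = some j → (q, j) ∈ lvPts k := by
    intro q j h
    rw [findU, Option.map_eq_some_iff] at h
    obtain ⟨p, hp, rfl⟩ := h
    have h1 := List.find?_some hp
    rw [Nat.beq_eq] at h1
    rw [← h1]
    exact List.mem_of_find?_eq_some hp
  have hsome : ∀ p ∈ lvPts k, ∃ j, findU (lvPts k) p.1 = some j ∧ (p.1, j) ∈ lvPts k := by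
    intro p hp
    have : ((lvPts k).find? fun a => Nat.beq a.1 p.1).isSome = true := by
      rw [List.find?_isSome]; exact ⟨p, hp, Nat.beq_refl _⟩
    obtain ⟨a, ha⟩ := Option.isSome_iff_exists.1 this
    exact ⟨a.2, by rw [findU, ha]; rfl, hfind _ _ (by rw [findU, ha]; rfl)⟩
  have hu : ∀ x ∈ P, proj (u x) (pt (lvBase k)) = x := by
    rintro x ⟨p, hp, rfl⟩
    obtain ⟨j, hj, hm⟩ := hsome p hp
    show proj (uOf ((findU (lvPts k) (idx (pt p.1))).getD 0)) _ = _
    rw [idx_pt _ (hpts p hp).1, hj, Option.getD_some]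
    exact uOf_proj hk hm
  refine LiftChain.stab_le proj P u ⟨_, hbase, rfl⟩ ?_ hu ?_
  · obtain ⟨j, hj, hm⟩ := hsome _ hbase
    show uOf ((findU (lvPts k) (idx (pt (lvBase k)))).getD 0) ∈ _
    rw [idx_pt _ hb, hj, Option.getD_some]
    rcases (hpts _ hm).2 with ⟨h0, -⟩ | ⟨i, hi, h7, h84, he, -, -⟩
    · rw [show j = 0 from h0]; simp [uOf, uWord]
    · exfalso
      -- the base point has the empty transversal word
      have hz : ∀ k < 5, ((findU (lvPts k) (lvBase k)).getD 1) = 0 := by decide +kernel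
      have := hz k hk
      rw [hj, Option.getD_some] at this
      omega
  · rintro s (⟨g, hg, rfl⟩ | rfl) x ⟨p, hp, rfl⟩
    · obtain ⟨e, he, eg, ep⟩ := hcov p hp g hg
      have hc := schreier_ok hk e he
      rw [schreierChk] at hc
      rw [eg, ep] at hc
      have hlt : g < 84 := by have := hg7 g hg; omega
      obtain ⟨a, ha, hma⟩ := hsome p hp
      change (match findU (lvPts k) p.1, findU (lvPts k) (ap (elPrm g) p.1) with
        | some a, some b => eqW e.2.2.1 (g :: uWord a) (uWord b ++ e.2.2.2)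
        | _, _ => false) = true at hc
      rw [ha] at hc
      rcases hb' : findU (lvPts k) (ap (elPrm g) p.1) with _ | b'
      · rw [hb'] at hc; simp at hc
      rw [hb'] at hc
      simp only at hc
      have hmb := hfind _ _ hb'
      have hps : proj (elem g) (pt p.1) = pt (ap (elPrm g) p.1) := proj_apply hlt (hpts p hp).1
      rw [hps]
      refine ⟨⟨_, hmb, rfl⟩, ?_⟩
      show (uOf ((findU (lvPts k) (idx (pt (ap (elPrm g) p.1)))).getD 0))⁻¹ * elem g *
        uOf ((findU (lvPts k) (idx (pt p.1))).getD 0) ∈ _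
      have hlt24 : ap (elPrm g) p.1 < 24 := (hpts _ hmb).1
      rw [idx_pt _ (hpts p hp).1, idx_pt _ hlt24, ha, hb', Option.getD_some, Option.getD_some]
      have hr : ∀ i ∈ e.2.2.2, i < 92 ∧ Rep i (elem i) ∧ elem i ∈ lvH (k + 1) := by
        intro i hi
        obtain ⟨m, hkm, hm, hq, hsub⟩ := (hchk e he).2 i hi
        obtain ⟨-, h84, hmem⟩ := uEl_mem hm i hq
        refine ⟨by omega, rep_elem h84, ?_⟩
        refine Subgroup.closure_mono ?_ hmem
        rintro _ (⟨g', hg', rfl⟩ | rfl)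
        · exact Or.inl ⟨g', hsub g' hg', rfl⟩
        · exact Or.inr rfl
      have key := eq_of_eqW elem (fun a' ha' => by
          rcases List.mem_cons.1 ha' with rfl | ha'
          · exact ⟨by omega, rep_elem hlt⟩
          · exact word_ok hk hma a' ha')
        (fun a' ha' => by
          rcases List.mem_append.1 ha' with ha' | ha'
          · exact word_ok hk hmb a' ha'
          · exact ⟨(hr a' ha').1, (hr a' ha').2.1⟩) hc
      rw [List.map_cons, List.prod_cons, List.map_append, List.prod_append] at key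
      have hzc : ∀ y : Amb, Commute y (Zel ^ e.2.2.1) := fun y =>
        Commute.pow_right (Zel_central y) _
      rw [mul_assoc (uOf b')⁻¹]
      simp only [uOf]
      rw [key, ← mul_assoc (Zel ^ e.2.2.1), ← (hzc _).eq,
        mul_assoc ((uWord b').map elem).prod, inv_mul_cancel_left]
      have hz : Zel ∈ lvH (k + 1) := Subgroup.subset_closure (Or.inr rfl)
      refine mul_mem (pow_mem hz _) (list_prod_mem fun y hy => ?_)
      obtain ⟨i, hi, rfl⟩ := List.mem_map.1 hy
      exact (hr i hi).2.2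
    · rw [proj_Zel]
      refine ⟨⟨p, hp, rfl⟩, ?_⟩
      rw [Equiv.Perm.one_apply, mul_assoc, ← Zel_central, ← mul_assoc, inv_mul_cancel, one_mul]
      exact Subgroup.subset_closure (Or.inr rfl)

/-- The covering group. -/
noncomputable def coverGroup : Subgroup Amb := lvH 0

theorem ker_le_zpowers : ∀ w ∈ coverGroup, w.1 = 1 → w ∈ Subgroup.zpowers Zel := by
  intro w hw h1
  have := LiftChain.ker_le_bottom proj (n := 5) lvH (fun k => pt (lvBase k))
    (fun k hk => stab_step hk) w hw (by show ((w.1 : G22) : Equiv.Perm GolayPt) = 1; rw [h1]; rfl)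
  have h5 : lvGens 5 = [] := by decide +kernel
  rw [lvH, h5] at this
  rw [Subgroup.zpowers_eq_closure]
  refine Subgroup.closure_mono ?_ this
  rintro x (⟨g, hg, -⟩ | hx)
  · simp at hg
  · exact hx

theorem elem_mem_cover {j : ℕ} (hj : j < 2) : elem j ∈ coverGroup :=
  Subgroup.subset_closure (Or.inl ⟨j, by rw [gens_zero]; simp; omega, rfl⟩)

/-- An element with a checked identity is represented. -/
lemma rep_of_eqW {n d : ℕ} (hn : n < 92) {l r : List ℕ} (hl : ∀ a ∈ l, a < 84) (hr : ∀ a ∈ r, a < 84)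
    (hd : d = 0) {z : Amb} (hab : z * (r.map elem).prod = (l.map elem).prod)
    (h : eqW d l (n :: r) = true) : Rep n z := by
  subst hd
  obtain ⟨⟨vl, l1⟩, l2⟩ := rep_word elem (w := l) fun a ha =>
    ⟨by have := hl a ha; omega, rep_elem (hl a ha)⟩
  obtain ⟨⟨vr, r1⟩, r2⟩ := rep_word elem (w := r) fun a ha =>
    ⟨by have := hr a ha; omega, rep_elem (hr a ha)⟩
  generalize (l.map elem).prod = x at hab l1 l2
  generalize (r.map elem).prod = y at hab r1 r2
  subst hab
  simp only [eqW, Bool.and_eq_true] at h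
  have hvn := (inG_spec (el_spec hn).1).1
  refine ⟨?_, fun s => ?_⟩
  · have hvc : validP (wPrm (n :: r)) = true := validP_mulP hvn vr
    have e2 := toPerm_eq_of_eqP vl hvc h.1
    rw [show wPrm (n :: r) = mulP (elPrm n) (wPrm r) from rfl, toPerm_mulP hvn vr, ← l1, ← r1,
      Prod.fst_mul, Subgroup.coe_mul] at e2
    exact mul_right_cancel e2
  · obtain ⟨t, rfl⟩ := ((y.2 : Mono) : Equiv.Perm St).surjective s
    have e := l2 t
    rw [Prod.snd_mul, Subgroup.coe_mul, Equiv.Perm.mul_apply] at e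
    rw [e, cEq_spec (fun a ha => by have := hl a ha; omega) (fun a ha => by
      rcases List.mem_cons.1 ha with rfl | ha
      · exact hn
      · have := hr a ha; omega) h.2 t.isLt, cShift_zero, r2]
    rfl

/-- A checked power of a represented element. -/
lemma pow_of_eqW {n d m : ℕ} (hn : n < 92) {z : Amb} (hz : Rep n z) {w : List ℕ}
    (hw : w = List.replicate m n) (h : eqW d w [] = true) : z ^ m = Zel ^ d := by
  subst hw
  have hp := eq_of_eqW (fun _ => z) (l := List.replicate m n) (fun a ha => by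
    obtain ⟨-, rfl⟩ := List.mem_replicate.1 ha
    exact ⟨hn, hz⟩) (by simp) h
  simpa using hp

/-- The commutator of the two lifts whose seventh power generates the kernel. -/
theorem exists_commutator_pow : ∃ a b : Amb, a ∈ coverGroup ∧ b ∈ coverGroup ∧
    ⁅a, b⁆ ^ 7 = Zel ^ 5 := by
  have hin : ∀ w : List ℕ, (∀ i ∈ w, i < 2) → (w.map elem).prod ∈ coverGroup := fun w h =>
    list_prod_mem fun y hy => by
      obtain ⟨i, hi, rfl⟩ := List.mem_map.1 hy; exact elem_mem_cover (h i hi)
  refine ⟨_, _, hin [0, 0, 0, 0] (by decide), hin [0, 1] (by decide), ?_⟩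
  refine pow_of_eqW (n := 91) (by norm_num) (rep_of_eqW (by norm_num) (by decide) (by decide) rfl
    ?_ commChk) (by rfl) powChk
  rw [List.map_append, List.prod_append, List.map_append, List.prod_append]
  exact (by intros; rw [commutatorElement_def]; group : ∀ a b : Amb, ⁅a, b⁆ * (b * a) = a * b) _ _

lemma orderOf_Zel : orderOf Zel = 12 := by
  have hpow : ∀ d, Zel ^ d = 1 ↔ ∀ s < nSt, cShift d s = s := by
    intro d
    constructor
    · intro h s hs
      have := Zel_pow_apply d ⟨s, hs⟩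
      rw [h] at this
      exact this.symm
    · intro h
      refine Prod.ext (by rw [Prod.pow_fst]; exact one_pow d)
        (Subtype.ext (Equiv.ext fun s => Fin.ext ?_))
      rw [Zel_pow_apply, h s s.isLt]; rfl
  rw [orderOf_eq_iff (by norm_num)]
  refine ⟨(hpow 12).2 fun s hs => ?_, fun m hm hm0 h => ?_⟩
  · rcases Nat.lt_or_ge s 4928 with h' | h'
    · rw [cShift_low _ h']; omega
    · rw [cShift_high _ h']; omega
  · have e1 := (hpow m).1 h 0 (by norm_num)
    have e2 := (hpow m).1 h 4928 (by norm_num)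
    rw [cShift_low _ (by norm_num)] at e1
    rw [cShift_high _ (by norm_num)] at e2
    omega

/-- The projection of the cover. -/
noncomputable def sigma : ↥coverGroup →* ↥G22 := (MonoidHom.fst _ _).comp coverGroup.subtype

theorem sigma_surjective : Function.Surjective sigma := by
  set R : Subgroup ↥G22 := sigma.range
  set H : Subgroup (Equiv.Perm GolayPt) := R.map G22.subtype
  have hH : H ≤ G22 := Subgroup.map_subtype_le R
  have hHM : H ≤ M24 := hH.trans (fun g hg => (mem_fix22_iff.1 hg).1)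
  have hfix : fixH H F22 = H := le_antisymm inf_le_left fun g hg =>
    mem_fixH.2 ⟨hg, (mem_fixH.1 (hH hg)).2⟩
  have hgen : ∀ L ∈ levs24.drop 2, ∀ P ∈ L.gens, toPerm P ∈ H := by
    intro L hL P hP
    have hfound : (levs24.drop 2).all (fun L => L.gens.all fun P =>
        fixWords.any fun e => Nat.beq e.1 P) = true := by decide +kernel
    have := List.all_eq_true.1 (List.all_eq_true.1 hfound L hL) P hP
    simp only [List.any_eq_true, Nat.beq_eq] at this
    obtain ⟨e, he, rfl⟩ := this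
    have hc := List.all_eq_true.1 fixWordsChk e he
    simp only [Bool.and_eq_true, List.all_eq_true, decide_eq_true_eq] at hc
    obtain ⟨⟨hv, e1⟩, -⟩ := rep_word elem (w := e.2) fun a ha =>
      ⟨by have := hc.1 a ha; omega, rep_elem (by have := hc.1 a ha; omega)⟩
    have hve : validP e.1 = true := by
      have hval : (levs24.drop 2).all (fun L => L.gens.all validP) = true := by decide +kernel
      exact List.all_eq_true.1 (List.all_eq_true.1 hval L hL) _ hP
    rw [toPerm_eq_of_eqP hve hv hc.2, ← e1]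
    refine ⟨(e.2.map elem).prod.1, ⟨⟨_, ?_⟩, rfl⟩, rfl⟩
    exact list_prod_mem fun y hy => by
      obtain ⟨i, hi, rfl⟩ := List.mem_map.1 hy; exact elem_mem_cover (hc.1 i hi)
  have hcarry : ∀ L ∈ levs24.drop 2, Carries H [] L.gens := fun L hL =>
    ⟨hHM, by simp, hgen L hL⟩
  have hcard : Nat.card H = 443520 := by
    rw [← hfix, card_chain (levs24.drop 2) F22 hcarry (by decide +kernel),
      fixH_eq_bot_of_stages hHM (St := stages24) (by decide +kernel), Subgroup.card_bot, mul_one]
    decide +kernel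
  rw [← MonoidHom.range_eq_top]
  refine Subgroup.eq_top_of_card_eq R ?_
  rw [natCard_fix22, ← hcard]
  exact (Subgroup.card_map_of_injective G22.subtype_injective).symm

theorem exists_cover : ∃ (Γ : Type) (_ : Group Γ) (_ : Finite Γ) (σ : Γ →* ↥G22),
    IsStemExtension σ ∧ Nonempty (σ.ker ≃* Multiplicative (ZMod 12)) := by
  obtain ⟨a, b, ha, hb, hab⟩ := exists_commutator_pow
  have hZmem : Zel ∈ coverGroup := Subgroup.subset_closure (Or.inr rfl)
  let Z : ↥coverGroup := ⟨Zel, hZmem⟩
  have hker : sigma.ker = Subgroup.zpowers Z := by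
    refine le_antisymm (fun w hw => ?_) (by rw [Subgroup.zpowers_le]; rfl)
    obtain ⟨k, hk⟩ := Subgroup.mem_zpowers_iff.1 (ker_le_zpowers w.1 w.2 hw)
    exact Subgroup.mem_zpowers_iff.2 ⟨k, Subtype.ext hk⟩
  have hord : orderOf Z = 12 := by rw [← Subgroup.orderOf_coe]; exact orderOf_Zel
  have h5 : Z ^ 5 ∈ commutator ↥coverGroup := by
    have e : ⁅(⟨a, ha⟩ : ↥coverGroup), ⟨b, hb⟩⁆ ^ 7 = Z ^ 5 := Subtype.ext hab
    rw [← e]
    exact pow_mem (Subgroup.commutator_mem_commutator (Subgroup.mem_top _) (Subgroup.mem_top _)) 7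
  have hZc : Z ∈ commutator ↥coverGroup := by
    have e : Z = (Z ^ 5) ^ 5 := by
      rw [← pow_mul, ← pow_mod_orderOf, hord]
      norm_num
    rw [e]; exact pow_mem h5 5
  refine ⟨↥coverGroup, inferInstance, inferInstance, sigma, ⟨sigma_surjective, ?_, ?_⟩, ⟨?_⟩⟩
  · rw [hker, Subgroup.zpowers_le, Subgroup.mem_center_iff]
    exact fun w => Subtype.ext (Zel_central w.1)
  · rw [hker, Subgroup.zpowers_le]; exact hZc
  · haveI : IsCyclic sigma.ker := by rw [hker]; infer_instance
    exact mulEquivOfCyclicCardEq (by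
      rw [hker, Nat.card_zpowers, hord, Nat.card_congr Multiplicative.toAdd, Nat.card_zmod])

end CfsgLib.M22
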