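import Cfsg.Agent.Lib.M22.CoverDefs

/-! Kernel checks of the lifted chain of M22: elements, definitions, generators. -/

set_option autoImplicit false
set_option maxRecDepth 100000

namespace CfsgLib.M22

open CfsgLib.Golay CfsgLib.Golay.SylowTwo

theorem elChk_all : (List.range 92).all elChk = true := by decide +kernel

theorem defChk_all : (List.range 77).all defChk = true := by decide +kernel

theorem invChk_all : (List.range 7).all (fun j => eqW 0 [j, 84 + j] [] && eqW 0 [84 + j, j] []) = true := by decide +kernel

theorem commChk : eqW 0 ([0, 0, 0, 0] ++ [0, 1]) (91 :: ([0, 1] ++ [0, 0, 0, 0])) = true := by decide +kernel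

theorem powChk : eqW 5 [91, 91, 91, 91, 91, 91, 91] [] = true := by decide +kernel

theorem fixWordsChk : fixWords.all (fun e => e.2.all (fun j => decide (j < 2)) &&
    eqP e.1 (wPrm e.2)) = true := by decide +kernel

end CfsgLib.M22
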