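import Cfsg.Agent.Lib.M22.CoverDefs

/-! Kernel checks of the lifted chain of M22: Schreier generators of level 2. -/

set_option autoImplicit false
set_option maxRecDepth 100000

namespace CfsgLib.M22

open CfsgLib.Golay CfsgLib.Golay.SylowTwo

theorem schreierChk_2_0 : ((schreier2.take 80).drop 0).all (schreierChk 2) = true := by decide +kernel
theorem schreierChk_3_0 : schreier3.all (schreierChk 3) = true := by decide +kernel

theorem schreierChk_4_0 : schreier4.all (schreierChk 4) = true := by decide +kernel

end CfsgLib.M22
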