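import Cfsg.Agent.Lib.M22.CoverData
import Cfsg.Agent.Lib.Chev.Check
import Cfsg.Agent.Lib.Golay.Mult.Odd

/-!
Kernel checks for the lifted chain of M22: equalities of monomial maps up to a shift of order twelve.
-/

set_option autoImplicit false
set_option maxRecDepth 100000

namespace CfsgLib.M22

open CfsgLib.Chev CfsgLib.Golay CfsgLib.Golay.SylowTwo

/-- The number of states: four for each of 1232 points and three for each of 330 points. -/
abbrev nSt : ℕ := 5918

/-- The common shift of both blocks. -/
def cShift (d s : ℕ) : ℕ :=
  cond (Nat.blt s 4928) (4 * (s / 4) + (s % 4 + d) % 4) (4928 + 3 * ((s - 4928) / 3) + ((s - 4928) % 3 + d) % 3)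

/-- The entry of a table at a point. -/
noncomputable def entry (T i : ℕ) : ℕ := Nat.land (Nat.shiftRight T (Nat.mul 16 i)) 65535

/-- One table applied to a state. -/
noncomputable def cStep (T s : ℕ) : ℕ :=
  cond (Nat.blt s 4928) (cShift (s % 4) (entry T (s / 4)))
    (cShift ((s - 4928) % 3) (entry T (1232 + (s - 4928) / 3)))

/-- `cStep`, evaluating each argument once. -/
noncomputable def cStepK (T s : ℕ) (f : ℕ → Bool) : Bool :=
  force s fun a =>
    cond (Nat.blt a 4928)
      (force (entry T (a / 4)) fun e => force (cShift (a % 4) e) f)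
      (force (entry T (1232 + (a - 4928) / 3)) fun e => force (cShift ((a - 4928) % 3) e) f)

lemma cStepK_eq (T s : ℕ) (f : ℕ → Bool) : cStepK T s f = f (cStep T s) := by
  simp only [cStepK, force_eq, cStep]
  cases Nat.blt s 4928 <;> rfl

/-- A word of elements applied to a state. -/
noncomputable def cAct : List ℕ → ℕ → ℕ
  | [], s => s
  | n :: w, s => cStep (elTab n) (cAct w s)

/-- `cAct`, evaluating each step once. -/
noncomputable def cActK : List ℕ → ℕ → (ℕ → Bool) → Bool
  | [], s, f => f s
  | n :: w, s, f => cActK w s fun a => cStepK (elTab n) a f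

lemma cActK_eq : ∀ (w : List ℕ) (s : ℕ) (f : ℕ → Bool), cActK w s f = f (cAct w s)
  | [], _, _ => rfl
  | n :: w, s, f => by
    show cActK w s _ = _
    rw [cActK_eq w s, cStepK_eq]
    rfl

/-- The base state of a point. -/
def baseSt (i : ℕ) : ℕ := cond (Nat.blt i 1232) (4 * i) (4928 + 3 * (i - 1232))

/-- Two words agree up to the shift `d`. -/
noncomputable def cEq (d : ℕ) (l r : List ℕ) : Bool :=
  allBelow 1562 fun i => force (baseSt i) fun x =>
    cActK l x fun a => cActK r x fun b => force b fun b => Nat.beq a (cShift d b)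

/-- The permutation of a word. -/
noncomputable def wPrm (w : List ℕ) : ℕ := CfsgLib.Golay.Mult.prodP (w.map elPrm)

/-- Two words agree, the monomial parts up to the shift `d`. -/
noncomputable def eqW (d : ℕ) (l r : List ℕ) : Bool := eqP (wPrm l) (wPrm r) && cEq d l r

/-- Membership in the stabiliser of two points. -/
noncomputable def inG (P : ℕ) : Bool := inM24 P && fixes P (2 ^ 23 ||| 1)

/-- An element: a valid permutation of the group, a table respecting the blocks. -/
noncomputable def elChk (n : ℕ) : Bool :=
  inG (elPrm n) && allBelow 1562 fun i =>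
    cond (Nat.blt i 1232) (Nat.blt (entry (elTab n) i) 4928)
      (Nat.ble 4928 (entry (elTab n) i) && Nat.blt (entry (elTab n) i) 5918)

/-- The word of a transversal element. -/
def uWord : ℕ → List ℕ
  | 0 => []
  | n + 1 => [n]

/-- A transversal element is the product it is defined to be. -/
noncomputable def defChk (n : ℕ) : Bool :=
  eqW 0 [7 + n] ((elDef.getD n (0, 0)).1 :: uWord (elDef.getD n (0, 0)).2)

/-- The transversal element of a point in an orbit list. -/
def findU (pts : List (ℕ × ℕ)) (q : ℕ) : Option ℕ := (pts.find? fun p => Nat.beq p.1 q).map Prod.snd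

/-- A Schreier generator lies in the next level up to a shift. -/
noncomputable def schreierChk (k : ℕ) (e : ℕ × ℕ × ℕ × List ℕ) : Bool :=
  match findU (chainData.getD k (0, [], [])).2.2 e.2.1,
      findU (chainData.getD k (0, [], [])).2.2 (ap (elPrm e.1) e.2.1) with
  | some a, some b => eqW e.2.2.1 (e.1 :: uWord a) (uWord b ++ e.2.2.2)
  | _, _ => false

end CfsgLib.M22
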