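import Cfsg.Agent.Lib.M22.CoverChkA
import Cfsg.Agent.Lib.M22.CoverChkB
import Cfsg.Agent.Lib.M22.CoverChkC
import Cfsg.Agent.Lib.M22.CoverChkD
import Cfsg.Agent.Lib.M22.CoverChkE
import Cfsg.Agent.Lib.Schur.LiftChain
import Cfsg.Agent.Lib.Golay.MathieuFacts

/-!
The group generated by the lifts of two generators of M22, and its projection.
-/

set_option autoImplicit false
set_option maxRecDepth 100000

namespace CfsgLib.M22

open Cfsg CfsgLib.Chev CfsgLib.Golay CfsgLib.Golay.SylowTwo CfsgLib.Schur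

attribute [local irreducible] idP toPerm mulP validP

/-- The copy of M22. -/
noncomputable abbrev G22 : Subgroup (Equiv.Perm GolayPt) := fixH M24 F22

lemma inG_spec {P : ℕ} (h : inG P = true) : validP P = true ∧ toPerm P ∈ G22 := by
  simp only [inG, Bool.and_eq_true] at h
  refine ⟨?_, toPerm_mem_fix24 h.1 h.2⟩
  have := h.1
  simp only [inM24, Bool.and_eq_true] at this
  exact this.1

lemma el_spec {n : ℕ} (hn : n < 92) : inG (elPrm n) = true ∧ ∀ i < 1562,
    (i < 1232 → entry (elTab n) i < 4928) ∧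
      (1232 ≤ i → 4928 ≤ entry (elTab n) i ∧ entry (elTab n) i < 5918) := by
  have h := List.all_eq_true.1 elChk_all n (List.mem_range.2 hn)
  simp only [elChk, Bool.and_eq_true] at h
  refine ⟨h.1, fun i hi => ?_⟩
  have h2 := allBelow_eq_true h.2 i hi
  constructor
  · intro hlt
    have e : Nat.blt i 1232 = true := by rw [Nat.blt_eq]; exact hlt
    rwa [e, cond_true, Nat.blt_eq] at h2
  · intro hge
    have e : Nat.blt i 1232 = false := by
      rw [Bool.eq_false_iff, ne_eq, Nat.blt_eq]; omega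
    rwa [e, cond_false, Bool.and_eq_true, Nat.ble_eq, Nat.blt_eq] at h2

lemma blt_true {a b : ℕ} (h : a < b) : Nat.blt a b = true := by rw [Nat.blt_eq]; exact h
lemma blt_false {a b : ℕ} (h : b ≤ a) : Nat.blt a b = false := by
  rw [Bool.eq_false_iff, ne_eq, Nat.blt_eq]; omega

lemma cShift_low (d : ℕ) {s : ℕ} (h : s < 4928) : cShift d s = 4 * (s / 4) + (s % 4 + d) % 4 := by
  rw [cShift, blt_true h, cond_true]
lemma cShift_high (d : ℕ) {s : ℕ} (h : 4928 ≤ s) :
    cShift d s = 4928 + 3 * ((s - 4928) / 3) + ((s - 4928) % 3 + d) % 3 := by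
  rw [cShift, blt_false h, cond_false]

lemma cShift_lt (d : ℕ) {s : ℕ} (h : s < nSt) : cShift d s < nSt := by
  rcases Nat.lt_or_ge s 4928 with h' | h'
  · rw [cShift_low d h']; show _ < 5918; omega
  · rw [cShift_high d h']
    have : s < 5918 := h
    show _ < 5918
    omega

lemma cShift_add (a b : ℕ) (s : ℕ) : cShift a (cShift b s) = cShift (a + b) s := by
  rcases Nat.lt_or_ge s 4928 with h' | h'
  · rw [cShift_low b h', cShift_low _ h', cShift_low a (by omega)]; omega
  · rw [cShift_high b h', cShift_high _ h', cShift_high a (by omega)]; omega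

lemma cShift_zero (s : ℕ) : cShift 0 s = s := by
  rcases Nat.lt_or_ge s 4928 with h' | h'
  · rw [cShift_low 0 h']; omega
  · rw [cShift_high 0 h']; omega

lemma cStep_spec {n : ℕ} (hn : n < 92) (k : ℕ) {s : ℕ} (hs : s < nSt) :
    cStep (elTab n) s < nSt ∧ cStep (elTab n) (cShift k s) = cShift k (cStep (elTab n) s) := by
  obtain ⟨-, he⟩ := el_spec hn
  have hs' : s < 5918 := hs
  rcases Nat.lt_or_ge s 4928 with h | h
  · have e1 := (he (s / 4) (by omega)).1 (by omega)
    have e2 : cShift k s < 4928 := by rw [cShift_low k h]; omega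
    constructor
    · rw [cStep, blt_true h, cond_true]; exact cShift_lt _ (show _ < 5918 by omega)
    · rw [cStep, blt_true e2, cond_true, cStep, blt_true h, cond_true,
        show cShift k s / 4 = s / 4 by rw [cShift_low k h]; omega,
        show cShift k s % 4 = (s % 4 + k) % 4 by rw [cShift_low k h]; omega,
        cShift_low _ e1, cShift_low k (by rw [cShift_low _ e1]; omega), cShift_low _ e1]
      omega
  · have e1 := (he (1232 + (s - 4928) / 3) (by omega)).2 (by omega)
    have e2 : 4928 ≤ cShift k s := by rw [cShift_high k h]; omega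
    constructor
    · rw [cStep, blt_false h, cond_false]; exact cShift_lt _ e1.2
    · rw [cStep, blt_false e2, cond_false, cStep, blt_false h, cond_false,
        show (cShift k s - 4928) / 3 = (s - 4928) / 3 by rw [cShift_high k h]; omega,
        show (cShift k s - 4928) % 3 = ((s - 4928) % 3 + k) % 3 by rw [cShift_high k h]; omega,
        cShift_high _ e1.1, cShift_high k (by rw [cShift_high _ e1.1]; omega), cShift_high _ e1.1]
      omega

lemma cAct_spec : ∀ {w : List ℕ}, (∀ n ∈ w, n < 92) → ∀ (k : ℕ) {s : ℕ}, s < nSt →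
    cAct w s < nSt ∧ cAct w (cShift k s) = cShift k (cAct w s) := by
  intro w
  induction w with
  | nil => exact fun _ k s hs => ⟨hs, rfl⟩
  | cons n w ih =>
    intro hw k s hs
    obtain ⟨h1, h2⟩ := ih (fun a ha => hw a (List.mem_cons_of_mem _ ha)) k hs
    obtain ⟨h3, h4⟩ := cStep_spec (hw n List.mem_cons_self) k h1
    refine ⟨h3, ?_⟩
    show cStep (elTab n) (cAct w (cShift k s)) = cShift k (cStep (elTab n) (cAct w s))
    rw [h2, h4]

lemma cEq_spec {d : ℕ} {l r : List ℕ} (hl : ∀ n ∈ l, n < 92) (hr : ∀ n ∈ r, n < 92)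
    (h : cEq d l r = true) {s : ℕ} (hs : s < nSt) : cAct l s = cShift d (cAct r s) := by
  have hs' : s < 5918 := hs
  obtain ⟨i, k, hi, e, hb⟩ : ∃ i k, i < 1562 ∧ s = cShift k (baseSt i) ∧ baseSt i < nSt := by
    rcases Nat.lt_or_ge s 4928 with h' | h'
    · refine ⟨s / 4, s % 4, by omega, ?_, ?_⟩
      · rw [baseSt, blt_true (by omega), cond_true, cShift_low _ (by omega)]; omega
      · rw [baseSt, blt_true (by omega), cond_true]; show _ < 5918; omega
    · refine ⟨1232 + (s - 4928) / 3, (s - 4928) % 3, by omega, ?_, ?_⟩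
      · rw [baseSt, blt_false (by omega), cond_false, cShift_high _ (by omega)]; omega
      · rw [baseSt, blt_false (by omega), cond_false]; show _ < 5918; omega
  have h1 := allBelow_eq_true h i hi
  rw [force_eq, cActK_eq, cActK_eq, force_eq, Nat.beq_eq] at h1
  rw [e, (cAct_spec hl k hb).2, (cAct_spec hr k hb).2, h1, cShift_add, cShift_add, add_comm]

/-- The states. -/
abbrev St : Type := Fin nSt

/-- The generator of the shifts. -/
noncomputable def shiftPerm : Equiv.Perm St where
  toFun s := ⟨cShift 1 s, cShift_lt 1 s.isLt⟩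
  invFun s := ⟨cShift 11 s, cShift_lt 11 s.isLt⟩
  left_inv s := Fin.ext (by
    show cShift 11 (cShift 1 s) = s
    rw [cShift_add]
    rcases Nat.lt_or_ge s.1 4928 with h | h
    · rw [cShift_low _ h]; omega
    · rw [cShift_high _ h]; omega)
  right_inv s := Fin.ext (by
    show cShift 1 (cShift 11 s) = s
    rw [cShift_add]
    rcases Nat.lt_or_ge s.1 4928 with h | h
    · rw [cShift_low _ h]; omega
    · rw [cShift_high _ h]; omega)

lemma shiftPerm_pow (d : ℕ) (s : St) : (((shiftPerm ^ d) s : St) : ℕ) = cShift d s := by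
  induction d with
  | zero => rw [pow_zero, Equiv.Perm.one_apply, cShift_zero]
  | succ d ih =>
    rw [pow_succ', Equiv.Perm.mul_apply]
    show cShift 1 ((shiftPerm ^ d) s : St) = _
    rw [ih, cShift_add, add_comm]

/-- The monomial permutations. -/
abbrev Mono : Subgroup (Equiv.Perm St) := Subgroup.centralizer {shiftPerm}

/-- The ambient group of the lifts. -/
abbrev Amb : Type := ↥G22 × ↥Mono

/-- A generator with its inverse table gives a permutation. -/
noncomputable def genPerm (j : Fin 7) : Equiv.Perm St where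
  toFun s := ⟨cStep (elTab j) s, (cStep_spec (by omega) 0 s.isLt).1⟩
  invFun s := ⟨cStep (elTab (84 + j)) s, (cStep_spec (by omega) 0 s.isLt).1⟩
  left_inv s := Fin.ext (by
    have h := List.all_eq_true.1 invChk_all j.1 (List.mem_range.2 j.2)
    simp only [eqW, Bool.and_eq_true] at h
    have := cEq_spec (by simp; omega) (by simp) h.2.2 s.isLt
    rwa [cShift_zero] at this)
  right_inv s := Fin.ext (by
    have h := List.all_eq_true.1 invChk_all j.1 (List.mem_range.2 j.2)
    simp only [eqW, Bool.and_eq_true] at h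
    have := cEq_spec (by simp; omega) (by simp) h.1.2 s.isLt
    rwa [cShift_zero] at this)

/-- The lift of a generator. -/
noncomputable def gen (j : Fin 7) : Amb :=
  (⟨toPerm (elPrm j), (inG_spec (el_spec (by omega)).1).2⟩,
    ⟨genPerm j, Subgroup.mem_centralizer_singleton_iff.2 (Equiv.ext fun s => Fin.ext
      (cStep_spec (by omega) 1 s.isLt).2)⟩)

/-- The pair has the given permutation and table. -/
def Rep (n : ℕ) (w : Amb) : Prop :=
  (w.1 : Equiv.Perm GolayPt) = toPerm (elPrm n) ∧
    ∀ s : St, (((w.2 : Equiv.Perm St) s : St) : ℕ) = cStep (elTab n) s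

/-- A word of elements, represented. -/
lemma rep_word (el : ℕ → Amb) : ∀ {w : List ℕ}, (∀ n ∈ w, n < 92 ∧ Rep n (el n)) →
    (validP (wPrm w) = true ∧ ((w.map el).prod.1 : Equiv.Perm GolayPt) = toPerm (wPrm w)) ∧
    ∀ s : St, ((((w.map el).prod.2 : Mono) : Equiv.Perm St) s : St).val = cAct w s := by
  intro w
  induction w with
  | nil =>
    intro _
    exact ⟨⟨validP_idP, by rw [show wPrm [] = idP from rfl, toPerm_idP]; rfl⟩, fun s => rfl⟩
  | cons n w ih =>
    intro h
    obtain ⟨hn, h1, h2⟩ := h n List.mem_cons_self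
    obtain ⟨⟨hv, e1⟩, e2⟩ := ih fun a ha => h a (List.mem_cons_of_mem _ ha)
    have hvn := (inG_spec (el_spec hn).1).1
    refine ⟨⟨validP_mulP hvn hv, ?_⟩, fun s => ?_⟩
    · rw [List.map_cons, List.prod_cons, Prod.fst_mul, Subgroup.coe_mul, h1, e1,
        show wPrm (n :: w) = mulP (elPrm n) (wPrm w) from rfl, toPerm_mulP hvn hv]
    · rw [List.map_cons, List.prod_cons, Prod.snd_mul, Subgroup.coe_mul, Equiv.Perm.mul_apply, h2,
        e2]
      rfl

/-- The shift in the ambient group. -/
noncomputable def Zel : Amb := (1, ⟨shiftPerm, Subgroup.mem_centralizer_singleton_iff.2 rfl⟩)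

lemma Zel_pow_apply (d : ℕ) (s : St) :
    ((((Zel ^ d).2 : Mono) : Equiv.Perm St) s : St).val = cShift d s := by
  rw [Prod.pow_snd, SubmonoidClass.coe_pow]
  exact shiftPerm_pow d s

lemma Zel_central (a : Amb) : a * Zel = Zel * a :=
  Prod.ext ((mul_one _).trans (one_mul _).symm)
    (Subtype.ext (Subgroup.mem_centralizer_singleton_iff.1 a.2.2))

/-- A checked identity of words. -/
lemma eq_of_eqW (el : ℕ → Amb) {d : ℕ} {l r : List ℕ} (hl : ∀ n ∈ l, n < 92 ∧ Rep n (el n))
    (hr : ∀ n ∈ r, n < 92 ∧ Rep n (el n)) (h : eqW d l r = true) :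
    (l.map el).prod = Zel ^ d * (r.map el).prod := by
  simp only [eqW, Bool.and_eq_true] at h
  obtain ⟨⟨vl, el1⟩, el2⟩ := rep_word el hl
  obtain ⟨⟨vr, er1⟩, er2⟩ := rep_word el hr
  refine Prod.ext (Subtype.ext ?_) (Subtype.ext (Equiv.ext fun s => Fin.ext ?_))
  · rw [el1, Prod.fst_mul, Prod.pow_fst, show Zel.1 = 1 from rfl, one_pow, one_mul, er1]
    exact toPerm_eq_of_eqP vl vr h.1
  · rw [el2, cEq_spec (fun n hn => (hl n hn).1) (fun n hn => (hr n hn).1) h.2 s.isLt, Prod.snd_mul,
      Subgroup.coe_mul, Equiv.Perm.mul_apply, Zel_pow_apply, er2]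

/-- The products given by a table of definitions. -/
noncomputable def uAux (D : ℕ → ℕ × ℕ) (n : ℕ) : Amb :=
  gen ⟨(D n).1 % 7, Nat.mod_lt _ (by norm_num)⟩ *
    if _h : 8 ≤ (D n).2 ∧ (D n).2 - 8 < n then uAux D ((D n).2 - 8) else 1
termination_by n
decreasing_by exact _h.2

lemma uAux_eq (D : ℕ → ℕ × ℕ) (n : ℕ) : uAux D n = gen ⟨(D n).1 % 7, Nat.mod_lt _ (by norm_num)⟩ *
    if _h : 8 ≤ (D n).2 ∧ (D n).2 - 8 < n then uAux D ((D n).2 - 8) else 1 := by
  rw [uAux]

/-- The transversal elements, as products. -/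
noncomputable def uEl (n : ℕ) : Amb := uAux (fun m => elDef.getD m (0, 0)) n

lemma uEl_eq (n : ℕ) : uEl n = gen ⟨(elDef.getD n (0, 0)).1 % 7, Nat.mod_lt _ (by norm_num)⟩ *
    if _h : 8 ≤ (elDef.getD n (0, 0)).2 ∧ (elDef.getD n (0, 0)).2 - 8 < n then
      uEl ((elDef.getD n (0, 0)).2 - 8) else 1 :=
  uAux_eq (fun m => elDef.getD m (0, 0)) n

end CfsgLib.M22
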