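import Cfsg.Agent.Lib.Schur.LinearTable

/-!
Generated tables for the Sylow subgroups of M22 for the primes two and three.
-/

set_option autoImplicit false
set_option maxRecDepth 100000

namespace CfsgLib.M22

open CfsgLib.Schur.LinTable

/-- data for the prime 2 -/
def mGens_two : List ℕ :=
  [972512676110088067912772961567868960, 980717513807977534628435478231451680,
   982223976146697185804879716145540672]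

/-- data for the prime 2 -/
def mTabs_two : List (List ℕ) :=
  [[1, 0, 6, 8, 10, 12, 2, 16, 3, 20, 4, 24, 5, 28, 22, 31, 7, 35, 37, 27, 9, 42, 14, 44,
   11, 48, 50, 19, 13, 55, 56, 15, 60, 62, 59, 17, 49, 18, 69, 70, 67, 71, 21, 72, 23, 76, 78, 75,
   25, 36, 26, 85, 86, 83, 87, 29, 30, 90, 91, 34, 32, 77, 33, 80, 79, 96, 82, 40, 99, 38, 39, 41,
   43, 102, 103, 47, 45, 61, 46, 64, 63, 108, 66, 53, 111, 51, 52, 54, 112, 101, 57, 58, 105, 104, 114, 107,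
   65, 110, 109, 68, 118, 89, 73, 74, 93, 92, 120, 95, 81, 98, 97, 84, 88, 124, 94, 123, 125, 121, 100, 126,
   106, 117, 127, 115, 113, 116, 119, 122],
   [2, 4, 0, 9, 1, 13, 14, 17, 18, 3, 22, 25, 26, 5, 6, 32, 33, 7, 8, 39, 40, 36, 10, 45,
   46, 11, 12, 52, 53, 49, 57, 58, 15, 16, 64, 65, 21, 67, 66, 19, 20, 63, 61, 73, 74, 23, 24, 80,
   81, 29, 83, 82, 27, 28, 79, 77, 88, 30, 31, 93, 94, 42, 96, 41, 34, 35, 38, 37, 97, 89, 95, 92,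
   100, 43, 44, 105, 106, 55, 108, 54, 47, 48, 51, 50, 109, 101, 107, 104, 56, 69, 113, 114, 71, 59, 60, 70,
   62, 68, 116, 117, 72, 85, 119, 120, 87, 75, 76, 86, 78, 84, 122, 123, 124, 90, 91, 125, 98, 99, 126, 102,
   103, 127, 110, 111, 112, 115, 118, 121],
   [3, 5, 7, 0, 11, 1, 15, 2, 19, 21, 23, 4, 27, 29, 30, 6, 34, 36, 38, 8, 41, 9, 43, 10,
   47, 49, 51, 12, 54, 13, 14, 59, 61, 63, 16, 66, 17, 68, 18, 65, 64, 20, 57, 22, 75, 77, 79, 24,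
   82, 25, 84, 26, 81, 80, 28, 73, 89, 42, 92, 31, 95, 32, 97, 33, 40, 39, 35, 98, 37, 94, 88, 90,
   101, 55, 104, 44, 107, 45, 109, 46, 53, 52, 48, 110, 50, 106, 100, 102, 70, 56, 71, 115, 58, 113, 69, 60,
   116, 62, 67, 114, 86, 72, 87, 121, 74, 119, 85, 76, 122, 78, 83, 120, 125, 93, 99, 91, 96, 124, 127, 105,
   111, 103, 108, 126, 117, 112, 123, 118]]

/-- data for the prime 2 -/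
def mPaths_two : List (List ℕ) :=
  [[], [0], [1], [2], [1, 0], [2, 0],
   [0, 1], [2, 1], [0, 2], [1, 2], [0, 1, 0], [2, 1, 0],
   [0, 2, 0], [1, 2, 0], [1, 0, 1], [2, 0, 1], [0, 2, 1], [1, 2, 1],
   [1, 0, 2], [2, 0, 2], [0, 1, 2], [2, 1, 2], [1, 0, 1, 0], [2, 0, 1, 0],
   [0, 2, 1, 0], [1, 2, 1, 0], [1, 0, 2, 0], [2, 0, 2, 0], [0, 1, 2, 0], [2, 1, 2, 0],
   [2, 1, 0, 1], [0, 2, 0, 1], [1, 2, 0, 1], [1, 0, 2, 1], [2, 0, 2, 1], [0, 1, 2, 1],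
   [2, 1, 2, 1], [0, 1, 0, 2], [2, 1, 0, 2], [1, 2, 0, 2], [1, 0, 1, 2], [2, 0, 1, 2],
   [0, 2, 1, 2], [2, 1, 0, 1, 0], [0, 2, 0, 1, 0], [1, 2, 0, 1, 0], [1, 0, 2, 1, 0], [2, 0, 2, 1, 0],
   [0, 1, 2, 1, 0], [2, 1, 2, 1, 0], [0, 1, 0, 2, 0], [2, 1, 0, 2, 0], [1, 2, 0, 2, 0], [1, 0, 1, 2, 0],
   [2, 0, 1, 2, 0], [0, 2, 1, 2, 0], [0, 2, 1, 0, 1], [1, 2, 1, 0, 1], [1, 0, 2, 0, 1], [2, 0, 2, 0, 1],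
   [0, 1, 2, 0, 1], [2, 1, 2, 0, 1], [0, 1, 0, 2, 1], [2, 1, 0, 2, 1], [1, 2, 0, 2, 1], [1, 0, 1, 2, 1],
   [2, 0, 1, 2, 1], [1, 0, 1, 0, 2], [2, 0, 1, 0, 2], [0, 2, 1, 0, 2], [0, 1, 2, 0, 2], [0, 2, 0, 1, 2],
   [0, 2, 1, 0, 1, 0], [1, 2, 1, 0, 1, 0], [1, 0, 2, 0, 1, 0], [2, 0, 2, 0, 1, 0], [0, 1, 2, 0, 1, 0], [2, 1, 2, 0, 1, 0],
   [0, 1, 0, 2, 1, 0], [2, 1, 0, 2, 1, 0], [1, 2, 0, 2, 1, 0], [1, 0, 1, 2, 1, 0], [2, 0, 1, 2, 1, 0], [1, 0, 1, 0, 2, 0],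
   [2, 0, 1, 0, 2, 0], [0, 2, 1, 0, 2, 0], [0, 1, 2, 0, 2, 0], [0, 2, 0, 1, 2, 0], [1, 0, 2, 1, 0, 1], [2, 0, 2, 1, 0, 1],
   [0, 1, 2, 1, 0, 1], [0, 1, 0, 2, 0, 1], [2, 1, 0, 2, 0, 1], [1, 2, 0, 2, 0, 1], [1, 0, 1, 2, 0, 1], [2, 0, 1, 2, 0, 1],
   [1, 0, 1, 0, 2, 1], [2, 0, 1, 0, 2, 1], [2, 1, 0, 1, 0, 2], [0, 2, 0, 1, 0, 2], [1, 0, 2, 1, 0, 1, 0], [2, 0, 2, 1, 0, 1, 0],
   [0, 1, 2, 1, 0, 1, 0], [0, 1, 0, 2, 0, 1, 0], [2, 1, 0, 2, 0, 1, 0], [1, 2, 0, 2, 0, 1, 0], [1, 0, 1, 2, 0, 1, 0], [2, 0, 1, 2, 0, 1, 0],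
   [1, 0, 1, 0, 2, 1, 0], [2, 0, 1, 0, 2, 1, 0], [2, 1, 0, 1, 0, 2, 0], [0, 2, 0, 1, 0, 2, 0], [0, 1, 0, 2, 1, 0, 1], [1, 0, 1, 2, 1, 0, 1],
   [1, 0, 1, 0, 2, 0, 1], [2, 0, 1, 0, 2, 0, 1], [2, 1, 0, 1, 0, 2, 1], [1, 0, 2, 0, 1, 0, 2], [0, 1, 0, 2, 1, 0, 1, 0], [1, 0, 1, 2, 1, 0, 1, 0],
   [1, 0, 1, 0, 2, 0, 1, 0], [2, 0, 1, 0, 2, 0, 1, 0], [2, 1, 0, 1, 0, 2, 1, 0], [1, 0, 2, 0, 1, 0, 2, 0], [1, 0, 1, 0, 2, 1, 0, 1], [2, 0, 1, 0, 2, 1, 0, 1],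
   [1, 0, 1, 0, 2, 1, 0, 1, 0], [2, 0, 1, 0, 2, 1, 0, 1, 0]]

/-- data for the prime 2 -/
def mInvs_two : List ℕ :=
  [0, 1, 2, 3, 6, 8, 4, 9, 5, 7, 10, 20, 12, 16, 14, 18, 13, 17, 15, 19, 11, 21, 22, 37,
   28, 35, 31, 27, 24, 42, 40, 26, 33, 32, 39, 25, 36, 23, 41, 34, 30, 38, 29, 67, 50, 62, 60, 70,
   48, 49, 44, 71, 59, 56, 69, 55, 53, 65, 58, 52, 46, 61, 45, 63, 64, 57, 66, 43, 68, 54, 47, 51,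
   83, 96, 91, 86, 78, 77, 76, 80, 79, 90, 82, 72, 99, 87, 75, 85, 94, 95, 81, 74, 92, 93, 88, 89,
   73, 97, 98, 84, 114, 107, 108, 103, 105, 104, 112, 101, 102, 110, 109, 111, 106, 113, 100, 117, 116, 115, 120, 124,
   118, 121, 125, 123, 119, 122, 126, 127]

/-- data for the prime 2 -/
def mWords_two : List (List ℕ) :=
  [[0, 0], [1, 1], [2, 2],
   [0, 1, 0, 1, 0, 1, 0, 1], [0, 2, 0, 2, 0, 2, 0, 2], [1, 2, 1, 2, 1, 2, 1, 2],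
   [2, 1, 2, 1, 0, 2, 1, 2, 1, 0], [1, 2, 0, 2, 1, 0, 2, 1, 0, 2, 1, 0]]

/-- data for the prime 2 -/
def mE_two : List (List (List ℤ)) :=
  [[[0, 0, 0, 0, 0, 0, 0, 0], [1, 0, 0, 0, 0, 0, 0, 0], [0, 0, 0, 0, 0, 0, 0, 0], [0, 0, 0, 0, 0, 0, 0, 0],
   [0, 0, 0, 0, 0, 0, 0, 0], [0, 0, 0, 0, 0, 0, 0, 0], [1, 0, 0, 0, 0, 0, 0, 0], [0, 0, 0, 0, 0, 0, 0, 0],
   [1, 0, 0, 0, 0, 0, 0, 0], [0, 0, 0, 0, 0, 0, 0, 0], [1, 0, 0, 0, 0, 0, 0, 0], [0, 0, 0, 0, 0, 0, 0, 0],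
   [1, 0, 0, 0, 0, 0, 0, 0], [0, 0, 0, 0, 0, 0, 0, 0], [-2, -2, 0, 1, 0, 0, 0, 0], [0, 0, 0, 0, 0, 0, 0, 0],
   [1, 0, 0, 0, 0, 0, 0, 0], [0, 0, 0, 0, 0, 0, 0, 0], [0, 0, 0, 0, 0, 0, 0, 0], [-2, 0, -2, 0, 1, 0, 0, 0],
   [1, 0, 0, 0, 0, 0, 0, 0], [0, 0, 0, 0, 0, 0, 0, 0], [-1, -2, 0, 1, 0, 0, 0, 0], [0, 0, 0, 0, 0, 0, 0, 0],
   [1, 0, 0, 0, 0, 0, 0, 0], [0, 0, 0, 0, 0, 0, 0, 0], [0, 0, 0, 0, 0, 0, 0, 0], [-1, 0, -2, 0, 1, 0, 0, 0],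
   [1, 0, 0, 0, 0, 0, 0, 0], [0, 0, 0, 0, 0, 0, 0, 0], [0, 0, 0, 0, 0, 0, 0, 0], [1, 0, 0, 0, 0, 0, 0, 0],
   [0, 0, 0, 0, 0, 0, 0, 0], [0, 0, 0, 0, 0, 0, 0, 0], [-2, 0, -2, 0, 1, 0, 0, 0], [1, 0, 0, 0, 0, 0, 0, 0],
   [-1, 0, 0, 0, 0, -1, 1, 0], [1, 0, 0, 0, 0, 0, 0, 0], [0, 0, 0, 0, 0, 0, 0, 0], [0, 0, 0, 0, 0, 0, 0, 0],
   [-2, -2, 0, 1, 0, 0, 0, 0], [0, 0, 0, 0, 0, 0, 0, 0], [1, 0, 0, 0, 0, 0, 0, 0], [0, 0, 0, 0, 0, 0, 0, 0],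
   [1, 0, 0, 0, 0, 0, 0, 0], [0, 0, 0, 0, 0, 0, 0, 0], [0, 0, 0, 0, 0, 0, 0, 0], [-2, 0, -2, 0, 1, 0, 0, 0],
   [1, 0, 0, 0, 0, 0, 0, 0], [0, 0, 0, 0, 0, -1, 1, 0], [1, 0, 0, 0, 0, 0, 0, 0], [0, 0, 0, 0, 0, 0, 0, 0],
   [0, 0, 0, 0, 0, 0, 0, 0], [-2, -2, 0, 1, 0, 0, 0, 0], [0, 0, 0, 0, 0, 0, 0, 0], [1, 0, 0, 0, 0, 0, 0, 0],
   [1, 0, 0, 0, 0, 0, 0, 0], [0, 0, 0, 0, 0, 0, 0, 0], [0, 0, 0, 0, 0, 0, 0, 0], [-1, 0, -2, 0, 1, 0, 0, 0],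
   [1, 0, 0, 0, 0, 0, 0, 0], [-2, -2, 0, 1, 0, 0, 0, 0], [1, 0, 0, 0, 0, 0, 0, 0], [-2, -2, -2, 0, 0, 0, 0, 1],
   [0, 0, 0, 0, 0, 1, -2, 1], [-2, -2, 0, 1, 0, 0, 0, 0], [1, -2, 4, 2, -1, 0, 1, -2], [-1, -2, 0, 1, 0, 0, 0, 0],
   [0, 0, 0, 0, 0, 0, 0, 0], [1, 0, 0, 0, 0, 0, 0, 0], [1, 0, 0, 0, 0, 0, 0, 0], [1, 0, 0, 0, 0, 0, 0, 0],
   [1, 0, 0, 0, 0, 0, 0, 0], [0, 0, 0, 0, 0, 0, 0, 0], [0, 0, 0, 0, 0, 0, 0, 0], [-1, 0, -2, 0, 1, 0, 0, 0],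
   [1, 0, 0, 0, 0, 0, 0, 0], [3, 2, 0, -1, 0, 0, 0, 0], [1, 0, 0, 0, 0, 0, 0, 0], [-1, -2, -2, 0, 0, 0, 0, 1],
   [1, 0, 0, 0, 0, 1, -2, 1], [-2, -2, 0, 1, 0, 0, 0, 0], [2, -2, 4, 2, -1, 0, 1, -2], [-1, -2, 0, 1, 0, 0, 0, 0],
   [0, 0, 0, 0, 0, 0, 0, 0], [1, 0, 0, 0, 0, 0, 0, 0], [1, 0, 0, 0, 0, 0, 0, 0], [1, 0, 0, 0, 0, 0, 0, 0],
   [0, 0, 0, 0, 0, 0, 0, 0], [0, 2, -2, -1, 1, 0, 0, 0], [1, 0, 0, 0, 0, 0, 0, 0], [1, 0, 0, 0, 0, 0, 0, 0],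
   [0, 0, -2, -1, 0, 0, 0, 1], [0, 0, 2, 1, 0, 0, 0, -1], [-2, -2, 0, 1, 0, 0, 0, 0], [2, 0, 4, 1, -1, -1, 2, -2],
   [-1, -2, 0, 1, 0, 0, 0, 0], [2, 0, 0, -1, -1, 0, 0, 1], [2, 4, 0, -1, 1, 0, 0, -1], [1, 0, 0, 0, 0, 0, 0, 0],
   [0, 0, 0, 0, 0, 0, 0, 0], [1, 2, -2, -1, 1, 0, 0, 0], [1, 0, 0, 0, 0, 0, 0, 0], [1, 0, 0, 0, 0, 0, 0, 0],
   [1, 0, -2, -1, 0, 0, 0, 1], [1, 0, 2, 1, 0, 0, 0, -1], [-2, -2, 0, 1, 0, 0, 0, 0], [3, 0, 4, 1, -1, -1, 2, -2],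
   [-1, -2, 0, 1, 0, 0, 0, 0], [2, 2, -2, -1, 1, 0, 1, -1], [-1, 0, 0, 1, 1, 0, 0, -1], [1, 0, 0, 0, 0, 0, 0, 0],
   [1, 0, 0, 0, 0, 0, 0, 0], [-2, -2, 0, 1, 0, 0, 0, 0], [-1, -2, 0, 1, 0, 0, 0, 0], [-2, 2, -6, -2, 2, 1, -2, 2],
   [2, 4, 0, -1, 1, 0, 0, -1], [-6, -6, 2, 2, -2, 1, -6, 6], [1, 0, 0, 0, 0, 0, 0, 0], [-2, -2, 0, 1, 0, 0, 0, 0],
   [-1, -2, 0, 1, 0, 0, 0, 0], [6, 4, 4, 0, 0, -1, 3, -4], [2, 4, 0, -1, 1, 0, 0, -1], [-3, 0, 0, 0, 0, 0, -4, 4],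
   [-1, -2, 0, 1, 0, 0, 0, 0], [2, 2, -2, -1, 1, 0, 1, -1], [-1, -2, 0, 1, 0, 0, 0, 0], [2, 2, -2, -1, 1, 0, 1, -1]],
   [[0, 0, 0, 0, 0, 0, 0, 0], [0, 0, 0, 0, 0, 0, 0, 0], [0, 1, 0, 0, 0, 0, 0, 0], [0, 0, 0, 0, 0, 0, 0, 0],
   [0, 1, 0, 0, 0, 0, 0, 0], [0, 0, 0, 0, 0, 0, 0, 0], [0, 0, 0, 0, 0, 0, 0, 0], [0, 0, 0, 0, 0, 0, 0, 0],
   [0, 0, 0, 0, 0, 0, 0, 0], [0, 1, 0, 0, 0, 0, 0, 0], [0, 0, 0, 0, 0, 0, 0, 0], [0, 0, 0, 0, 0, 0, 0, 0],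
   [0, 0, 0, 0, 0, 0, 0, 0], [0, 1, 0, 0, 0, 0, 0, 0], [0, 1, 0, 0, 0, 0, 0, 0], [0, 0, 0, 0, 0, 0, 0, 0],
   [0, 0, 0, 0, 0, 0, 0, 0], [0, 1, 0, 0, 0, 0, 0, 0], [0, 1, 0, 0, 0, 0, 0, 0], [0, 0, 0, 0, 0, 0, 0, 0],
   [0, 0, 0, 0, 0, 0, 0, 0], [0, -2, -2, 0, 0, 1, 0, 0], [0, 1, 0, 0, 0, 0, 0, 0], [0, 0, 0, 0, 0, 0, 0, 0],
   [0, 0, 0, 0, 0, 0, 0, 0], [0, 1, 0, 0, 0, 0, 0, 0], [0, 1, 0, 0, 0, 0, 0, 0], [0, 0, 0, 0, 0, 0, 0, 0],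
   [0, 0, 0, 0, 0, 0, 0, 0], [0, -2, -2, 0, 0, 1, 0, 0], [0, 0, 0, 0, 0, 0, 0, 0], [0, 0, 0, 0, 0, 0, 0, 0],
   [0, 1, 0, 0, 0, 0, 0, 0], [0, 1, 0, 0, 0, 0, 0, 0], [0, 0, 0, 0, 0, 0, 0, 0], [0, 0, 0, 0, 0, 0, 0, 0],
   [0, -1, -2, 0, 0, 1, 0, 0], [0, 0, 0, 0, 0, 0, 0, 0], [-1, -2, -2, 0, 0, 0, 1, 0], [0, 1, 0, 0, 0, 0, 0, 0],
   [0, 1, 0, 0, 0, 0, 0, 0], [1, 2, 2, 0, 0, 0, -1, 0], [-1, -2, -2, 0, 0, 0, 1, 0], [0, 0, 0, 0, 0, 0, 0, 0],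
   [0, 0, 0, 0, 0, 0, 0, 0], [0, 1, 0, 0, 0, 0, 0, 0], [0, 1, 0, 0, 0, 0, 0, 0], [0, 0, 0, 0, 0, 0, 0, 0],
   [0, 0, 0, 0, 0, 0, 0, 0], [0, -1, -2, 0, 0, 1, 0, 0], [0, 0, 0, 0, 0, 0, 0, 0], [-1, -2, -2, 0, 0, 0, 1, 0],
   [0, 1, 0, 0, 0, 0, 0, 0], [0, 1, 0, 0, 0, 0, 0, 0], [1, 2, 2, 0, 0, 0, -1, 0], [-1, -2, -2, 0, 0, 0, 1, 0],
   [0, 0, 0, 0, 0, 0, 0, 0], [0, 1, 0, 0, 0, 0, 0, 0], [0, 1, 0, 0, 0, 0, 0, 0], [0, 0, 0, 0, 0, 0, 0, 0],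
   [0, 0, 0, 0, 0, 0, 0, 0], [0, 3, 2, 0, 0, -1, 0, 0], [0, 0, 0, 0, 0, 0, 0, 0], [-1, -1, -2, 0, 0, 0, 1, 0],
   [0, 1, 0, 0, 0, 0, 0, 0], [0, 1, 0, 0, 0, 0, 0, 0], [0, 3, 2, 0, 0, -1, 0, 0], [0, 1, 0, 0, 0, 0, 0, 0],
   [1, 0, -2, -1, 0, 0, 1, 0], [-1, -2, -2, 0, 0, 1, -1, 1], [-1, -2, -2, 0, 0, 1, -1, 1], [1, 0, 6, 2, -1, -1, 1, -2],
   [0, 0, 0, 0, 0, 0, 0, 0], [0, 1, 0, 0, 0, 0, 0, 0], [0, 1, 0, 0, 0, 0, 0, 0], [0, 0, 0, 0, 0, 0, 0, 0],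
   [0, 0, 0, 0, 0, 0, 0, 0], [0, 3, 2, 0, 0, -1, 0, 0], [0, 0, 0, 0, 0, 0, 0, 0], [-1, -1, -2, 0, 0, 0, 1, 0],
   [0, 1, 0, 0, 0, 0, 0, 0], [0, 1, 0, 0, 0, 0, 0, 0], [0, 3, 2, 0, 0, -1, 0, 0], [0, 1, 0, 0, 0, 0, 0, 0],
   [1, 0, -2, -1, 0, 0, 1, 0], [-1, -2, -2, 0, 0, 1, -1, 1], [-1, -2, -2, 0, 0, 1, -1, 1], [1, 0, 6, 2, -1, -1, 1, -2],
   [0, 1, 0, 0, 0, 0, 0, 0], [-1, 1, 0, 0, 0, 0, -1, 1], [0, 0, 0, 0, 0, 0, 0, 0], [0, 0, 0, 0, 0, 0, 0, 0],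
   [1, -1, 0, 0, -1, 0, 1, 0], [0, 1, 0, 0, 0, 0, 0, 0], [0, 1, 0, 0, 0, 0, 0, 0], [-1, 1, 0, 0, 0, 0, -1, 1],
   [0, 1, 0, 0, 0, 0, 0, 0], [1, 1, -2, -1, 0, 0, 1, 0], [1, -2, -4, -1, 0, 1, 1, 0], [0, 0, 0, 0, 0, 0, 0, 0],
   [0, 1, 0, 0, 0, 0, 0, 0], [-1, 1, 0, 0, 0, 0, -1, 1], [0, 0, 0, 0, 0, 0, 0, 0], [0, 0, 0, 0, 0, 0, 0, 0],
   [1, -1, 0, 0, -1, 0, 1, 0], [0, 1, 0, 0, 0, 0, 0, 0], [0, 1, 0, 0, 0, 0, 0, 0], [-1, 1, 0, 0, 0, 0, -1, 1],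
   [0, 1, 0, 0, 0, 0, 0, 0], [1, 1, -2, -1, 0, 0, 1, 0], [1, -2, -4, -1, 0, 1, 1, 0], [0, 0, 0, 0, 0, 0, 0, 0],
   [0, 0, 0, 0, 0, 0, 0, 0], [0, 1, 0, 0, 0, 0, 0, 0], [0, 1, 0, 0, 0, 0, 0, 0], [4, 2, 0, -1, 0, 0, 2, -2],
   [0, -1, -4, -1, 0, 0, 2, 0], [0, 1, 0, 0, 0, 0, 0, 0], [0, 0, 0, 0, 0, 0, 0, 0], [0, 1, 0, 0, 0, 0, 0, 0],
   [0, 1, 0, 0, 0, 0, 0, 0], [4, 2, 0, -1, 0, 0, 2, -2], [0, -1, -4, -1, 0, 0, 2, 0], [0, 1, 0, 0, 0, 0, 0, 0],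
   [0, 1, 0, 0, 0, 0, 0, 0], [1, 1, -2, -1, 0, 0, 1, 0], [0, 1, 0, 0, 0, 0, 0, 0], [1, 1, -2, -1, 0, 0, 1, 0]],
   [[0, 0, 0, 0, 0, 0, 0, 0], [0, 0, 0, 0, 0, 0, 0, 0], [0, 0, 0, 0, 0, 0, 0, 0], [0, 0, 1, 0, 0, 0, 0, 0],
   [0, 0, 0, 0, 0, 0, 0, 0], [0, 0, 1, 0, 0, 0, 0, 0], [0, 0, 0, 0, 0, 0, 0, 0], [0, 0, 1, 0, 0, 0, 0, 0],
   [0, 0, 0, 0, 0, 0, 0, 0], [0, 0, 0, 0, 0, 0, 0, 0], [0, 0, 0, 0, 0, 0, 0, 0], [0, 0, 1, 0, 0, 0, 0, 0],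
   [0, 0, 0, 0, 0, 0, 0, 0], [0, 0, 0, 0, 0, 0, 0, 0], [0, 0, 0, 0, 0, 0, 0, 0], [0, 0, 1, 0, 0, 0, 0, 0],
   [0, 0, 0, 0, 0, 0, 0, 0], [0, 0, 0, 0, 0, 0, 0, 0], [0, 0, 0, 0, 0, 0, 0, 0], [0, 0, 1, 0, 0, 0, 0, 0],
   [0, 0, 0, 0, 0, 0, 0, 0], [0, 0, 1, 0, 0, 0, 0, 0], [0, 0, 0, 0, 0, 0, 0, 0], [0, 0, 1, 0, 0, 0, 0, 0],
   [0, 0, 0, 0, 0, 0, 0, 0], [0, 0, 0, 0, 0, 0, 0, 0], [0, 0, 0, 0, 0, 0, 0, 0], [0, 0, 1, 0, 0, 0, 0, 0],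
   [0, 0, 0, 0, 0, 0, 0, 0], [0, 0, 1, 0, 0, 0, 0, 0], [0, 0, 1, 0, 0, 0, 0, 0], [0, 0, 0, 0, 0, 0, 0, 0],
   [0, 0, 0, 0, 0, 0, 0, 0], [0, 0, 0, 0, 0, 0, 0, 0], [0, 0, 1, 0, 0, 0, 0, 0], [0, 0, 0, 0, 0, 0, 0, 0],
   [0, 0, 1, 0, 0, 0, 0, 0], [0, 0, 0, 0, 0, 0, 0, 0], [0, 0, 1, 0, 0, 0, 0, 0], [0, -1, 1, 0, 0, 0, 0, 0],
   [-1, 0, 0, 0, 0, -1, 1, 0], [0, 0, 1, 0, 0, 0, 0, 0], [0, -1, 1, 0, 0, 0, 0, 0], [0, 0, 1, 0, 0, 0, 0, 0],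
   [0, 0, 0, 0, 0, 0, 0, 0], [0, 0, 0, 0, 0, 0, 0, 0], [0, 0, 0, 0, 0, 0, 0, 0], [0, 0, 1, 0, 0, 0, 0, 0],
   [0, 0, 0, 0, 0, 0, 0, 0], [0, 0, 1, 0, 0, 0, 0, 0], [0, 0, 0, 0, 0, 0, 0, 0], [0, 0, 1, 0, 0, 0, 0, 0],
   [0, -1, 1, 0, 0, 0, 0, 0], [-1, 0, 0, 0, 0, -1, 1, 0], [0, 0, 1, 0, 0, 0, 0, 0], [0, -1, 1, 0, 0, 0, 0, 0],
   [0, 0, 0, 0, 0, 0, 0, 0], [-1, 1, 0, 0, 0, -1, 1, 0], [0, 0, 0, 0, 0, 0, 0, 0], [0, 0, 1, 0, 0, 0, 0, 0],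
   [0, 0, 0, 0, 0, 0, 0, 0], [0, 0, 1, 0, 0, 0, 0, 0], [0, 0, 0, 0, 0, 0, 0, 0], [0, 0, 1, 0, 0, 0, 0, 0],
   [0, 0, 1, 0, 0, 0, 0, 0], [-1, 1, 0, 0, 0, -1, 1, 0], [0, 0, 1, 0, 0, 0, 0, 0], [0, 0, 0, 0, 0, 0, 0, 0],
   [0, 0, 1, 0, 0, 0, 0, 0], [-2, -3, -1, 0, 0, 0, 0, 1], [0, -1, 1, 0, 0, 1, -2, 1], [-1, -1, -1, 0, 1, 1, -1, 0],
   [0, 0, 0, 0, 0, 0, 0, 0], [-1, 1, 0, 0, 0, -1, 1, 0], [0, 0, 0, 0, 0, 0, 0, 0], [0, 0, 1, 0, 0, 0, 0, 0],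
   [0, 0, 0, 0, 0, 0, 0, 0], [0, 0, 1, 0, 0, 0, 0, 0], [0, 0, 0, 0, 0, 0, 0, 0], [0, 0, 1, 0, 0, 0, 0, 0],
   [0, 0, 1, 0, 0, 0, 0, 0], [-1, 1, 0, 0, 0, -1, 1, 0], [0, 0, 1, 0, 0, 0, 0, 0], [0, 0, 0, 0, 0, 0, 0, 0],
   [0, 0, 1, 0, 0, 0, 0, 0], [-2, -3, -1, 0, 0, 0, 0, 1], [0, -1, 1, 0, 0, 1, -2, 1], [-1, -1, -1, 0, 1, 1, -1, 0],
   [-2, -1, -2, 0, 0, 0, 0, 1], [0, 0, 1, 0, 0, 0, 0, 0], [-2, 1, -2, 0, 1, 0, 0, 0], [0, 0, 0, 0, 0, 0, 0, 0],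
   [0, 0, 1, 0, 0, 0, 0, 0], [0, -1, 1, 0, 0, 0, 0, 0], [-1, 1, 0, 0, 0, 0, -1, 1], [0, 0, 1, 0, 0, 0, 0, 0],
   [0, 0, 0, 0, 0, 0, 0, 0], [0, 0, 1, 0, 0, 0, 0, 0], [0, 0, 1, 0, 0, 0, 0, 0], [2, -1, 1, -1, -1, 0, 0, 1],
   [-2, -1, -2, 0, 0, 0, 0, 1], [0, 0, 1, 0, 0, 0, 0, 0], [-2, 1, -2, 0, 1, 0, 0, 0], [0, 0, 0, 0, 0, 0, 0, 0],
   [0, 0, 1, 0, 0, 0, 0, 0], [0, -1, 1, 0, 0, 0, 0, 0], [-1, 1, 0, 0, 0, 0, -1, 1], [0, 0, 1, 0, 0, 0, 0, 0],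
   [0, 0, 0, 0, 0, 0, 0, 0], [0, 0, 1, 0, 0, 0, 0, 0], [0, 0, 1, 0, 0, 0, 0, 0], [2, -1, 1, -1, -1, 0, 0, 1],
   [0, 0, 0, 0, 0, 0, 0, 0], [0, 1, 0, 0, 0, 0, 0, 0], [-2, 1, 0, 1, 1, 0, 0, -1], [0, 0, 1, 0, 0, 0, 0, 0],
   [0, 0, 1, 0, 0, 0, 0, 0], [4, -1, -5, -4, -1, 1, 0, 3], [0, 0, 0, 0, 0, 0, 0, 0], [0, 1, 0, 0, 0, 0, 0, 0],
   [-2, 1, 0, 1, 1, 0, 0, -1], [0, 0, 1, 0, 0, 0, 0, 0], [0, 0, 1, 0, 0, 0, 0, 0], [4, -1, -5, -4, -1, 1, 0, 3],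
   [0, 1, -2, 0, 1, -1, 4, -3], [0, 0, 1, 0, 0, 0, 0, 0], [0, 1, -2, 0, 1, -1, 4, -3], [0, 0, 1, 0, 0, 0, 0, 0]]]

/-- data for the prime 2 -/
def mTree_two : List (ℕ × ℕ) :=
  [(0, 0), (1, 0), (2, 0), (1, 1), (2, 1), (0, 2), (2, 2), (0, 3), (1, 3), (0, 4),
   (2, 4), (0, 5), (1, 5), (1, 6), (2, 6), (0, 7), (1, 7), (1, 8), (2, 8), (0, 9),
   (2, 9), (1, 10), (2, 10), (0, 11), (1, 11), (1, 12), (2, 12), (0, 13), (2, 13), (2, 14),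
   (0, 15), (1, 15), (1, 16), (2, 16), (0, 17), (2, 17), (0, 18), (2, 18), (1, 19), (1, 20),
   (2, 20), (0, 21), (2, 22), (0, 23), (1, 23), (1, 24), (2, 24), (0, 25), (2, 25), (0, 26),
   (2, 26), (1, 27), (1, 28), (2, 28), (0, 29), (0, 30), (1, 30), (1, 31), (2, 31), (0, 32),
   (2, 32), (0, 33), (2, 33), (1, 34), (1, 35), (2, 35), (1, 37), (2, 37), (0, 38), (0, 39),
   (0, 41), (0, 43), (1, 43), (1, 44), (2, 44), (0, 45), (2, 45), (0, 46), (2, 46), (1, 47),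
   (1, 48), (2, 48), (1, 50), (2, 50), (0, 51), (0, 52), (0, 54), (1, 56), (2, 56), (0, 57),
   (0, 58), (2, 58), (1, 59), (1, 60), (2, 60), (1, 62), (2, 62), (2, 67), (0, 68), (1, 72),
   (2, 72), (0, 73), (0, 74), (2, 74), (1, 75), (1, 76), (2, 76), (1, 78), (2, 78), (2, 83),
   (0, 84), (0, 88), (1, 90), (1, 91), (2, 91), (2, 96), (1, 99), (0, 100), (1, 102), (1, 103),
   (2, 103), (2, 108), (1, 111), (1, 112), (2, 112), (1, 118), (2, 118)]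

/-- data for the prime 2 -/
def mCert_two : List (ℕ × ℕ × ℕ) :=
  [(0, 0, 0), (0, 2, 0), (0, 3, 0), (0, 4, 0), (0, 5, 0), (0, 7, 0), (0, 9, 0), (0, 11, 0),
   (0, 13, 0), (0, 15, 0), (0, 17, 0), (0, 18, 0), (0, 21, 0), (0, 23, 0), (0, 25, 0), (0, 26, 0),
   (0, 29, 0), (0, 30, 0), (0, 32, 0), (0, 33, 0), (0, 38, 0), (0, 39, 0), (0, 41, 0), (0, 43, 0),
   (0, 45, 0), (0, 46, 0), (0, 51, 0), (0, 52, 0), (0, 54, 0), (0, 57, 0), (0, 58, 0), (0, 68, 0),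
   (0, 73, 0), (0, 74, 0), (0, 84, 0), (0, 88, 0), (0, 100, 0), (1, 0, 0), (1, 1, 0), (1, 3, 0),
   (1, 5, 0), (1, 6, 0), (1, 7, 0), (1, 8, 0), (1, 10, 0), (1, 11, 0), (1, 12, 0), (1, 15, 0),
   (1, 16, 0), (1, 19, 0), (1, 20, 0), (1, 23, 0), (1, 24, 0), (1, 27, 0), (1, 28, 0), (1, 30, 0),
   (1, 31, 0), (1, 34, 0), (1, 35, 0), (1, 37, 0), (1, 43, 0), (1, 44, 0), (1, 47, 0), (1, 48, 0),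
   (1, 50, 0), (1, 56, 0), (1, 59, 0), (1, 60, 0), (1, 62, 0), (1, 72, 0), (1, 75, 0), (1, 76, 0),
   (1, 78, 0), (1, 90, 0), (1, 91, 0), (1, 99, 0), (1, 102, 0), (1, 103, 0), (1, 111, 0), (1, 112, 0),
   (1, 118, 0), (2, 0, 0), (2, 1, 0), (2, 2, 0), (2, 4, 0), (2, 6, 0), (2, 8, 0), (2, 9, 0),
   (2, 10, 0), (2, 12, 0), (2, 13, 0), (2, 14, 0), (2, 16, 0), (2, 17, 0), (2, 18, 0), (2, 20, 0),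
   (2, 22, 0), (2, 24, 0), (2, 25, 0), (2, 26, 0), (2, 28, 0), (2, 31, 0), (2, 32, 0), (2, 33, 0),
   (2, 35, 0), (2, 37, 0), (2, 44, 0), (2, 45, 0), (2, 46, 0), (2, 48, 0), (2, 50, 0), (2, 56, 0),
   (2, 58, 0), (2, 60, 0), (2, 62, 0), (2, 67, 0), (2, 72, 0), (2, 74, 0), (2, 76, 0), (2, 78, 0),
   (2, 83, 0), (2, 91, 0), (2, 96, 0), (2, 103, 0), (2, 108, 0), (2, 112, 0), (2, 118, 0), (3, 0, 4),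
   (3, 1, 4), (3, 3, 4), (3, 5, 4), (3, 7, 4), (3, 8, 4), (3, 11, 4), (3, 12, 4), (3, 15, 4),
   (3, 16, 4), (3, 23, 4), (3, 24, 4), (3, 30, 4), (3, 31, 4), (3, 43, 4), (3, 44, 4), (3, 56, 4),
   (3, 72, 4), (4, 0, 4), (4, 1, 4), (4, 2, 4), (4, 4, 4), (4, 6, 4), (4, 10, 4), (4, 14, 4),
   (4, 22, 4), (5, 0, 4), (5, 1, 4), (5, 2, 4), (5, 4, 4), (6, 0, 4), (6, 1, 4), (6, 2, 5),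
   (6, 3, 6), (6, 4, 5), (6, 5, 6), (6, 6, 3), (6, 7, 6), (6, 8, 2), (6, 9, 7), (6, 10, 3),
   (6, 11, 6), (6, 12, 2), (6, 13, 7), (7, 0, 5), (7, 1, 5), (7, 2, 6), (7, 3, 7), (7, 4, 6),
   (7, 5, 7), (7, 8, 3), (7, 9, 8), (7, 12, 3), (7, 13, 8), (7, 14, 5), (7, 17, 7), (7, 20, 1),
   (7, 22, 5), (7, 23, 2), (7, 25, 7), (7, 28, 1), (7, 30, 1), (7, 35, 1), (7, 38, 0), (7, 42, 0),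
   (7, 43, 1), (7, 48, 1), (7, 50, 2), (7, 51, 0), (7, 55, 0), (7, 56, 1), (7, 60, 1), (7, 63, 0),
   (7, 69, 0), (7, 70, 0), (7, 72, 1), (7, 76, 1), (7, 79, 0), (7, 85, 0), (7, 86, 0), (7, 90, 1),
   (7, 91, 1), (7, 102, 1), (7, 103, 1), (0, 61, 0), (0, 92, 0), (0, 93, 1), (0, 97, 0), (2, 93, 0),
   (2, 99, 0), (2, 105, 0), (2, 111, 0), (3, 19, 4), (3, 27, 4), (3, 34, 3), (3, 38, 6), (3, 41, 1),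
   (3, 47, 3), (3, 51, 6), (3, 54, 1), (4, 9, 3), (4, 13, 3), (4, 20, 5), (4, 28, 5), (4, 39, 4),
   (4, 40, 2), (4, 46, 2), (4, 52, 4), (4, 65, 2), (4, 81, 2), (6, 18, 6), (6, 26, 6), (6, 33, 6),
   (6, 37, 1), (6, 40, 6), (6, 46, 6), (6, 50, 1), (6, 53, 6), (6, 58, 5), (6, 74, 5), (6, 88, 7),
   (6, 91, 1), (6, 94, 6), (6, 100, 7), (6, 103, 1), (6, 106, 6), (7, 88, 8), (7, 89, 5), (7, 94, 8),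
   (7, 95, 5)]

/-- data for the prime 2 -/
def mRels_two : List Rel :=
  [.loop 0 14, .loop 0 63, .loop 0 98,
   .pair 3 121 61 92, .pair 2 97 3 12]

/-- data for the prime 2 -/
def mConj_two : List ℕ :=
  [0,
   0,
   0,
   979289497742843439875721157737163008,
   959746634235139875641211165650229632]

/-- the table for the prime 2 -/
def sylTab_two : Tab where
  k := 3
  N := 128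
  d := 8
  tab j i := (mTabs_two.getD j []).getD i 0
  path t := mPaths_two.getD t []
  invOf t := mInvs_two.getD t 0
  word i := mWords_two.getD i []
  E j i := (mE_two.getD j []).getD i []
  tree := mTree_two
  cert := mCert_two

/-- the lattice certificate for the prime 2 -/
def latCert_two : LatCert where
  rels := mRels_two
  n := 4
  D := 8
  A c j := (([[4, 0, 0], [0, 4, 0], [0, 0, 4]] : List (List ℤ)).getD c []).getD j 0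
  gen := [0, 0, 0, 0, 0, 1, -2, 1]
  mu0 l := ([1, 0, 4, -2, -2] : List ℤ).getD l 0
  P c := ([[1, 0, 0, 0, 0, 0, 0, 0], [0, 1, 0, 0, 0, 0, 0, 0], [0, 0, 1, 0, 0, 0, 0, 0]] : List (List ℤ)).getD c []
  Y i c := (([[1, 0, 0], [0, 1, 0], [0, 0, 1], [2, 2, 0], [2, 0, 2], [0, 2, 2], [1, 2, 2], [2, 2, 2]] : List (List ℤ)).getD i []).getD c 0
  q i := ([0, 0, 0, 6, 8, -2, 2, 7] : List ℤ).getD i 0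
  mu i l := (([[0, 0, 0, 0, 0], [0, 0, 0, 0, 0], [0, 0, 0, 0, 0], [-1, 0, -6, 3, 3], [-2, 2, -9, 5, 4], [2, -5, 6, -4, 0], [0, -2, -1, 0, 2], [-2, 1, -8, 4, 4]] : List (List ℤ)).getD i []).getD l 0

/-- data for the prime 3 -/
def mGens_three : List ℕ :=
  [976586101542229932090222302698448000, 981486382932547391085808379178912096]

/-- data for the prime 3 -/
def mTabs_three : List (List ℕ) :=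
  [[1, 3, 4, 0, 6, 7, 2, 8, 5],
   [2, 4, 5, 6, 7, 0, 8, 1, 3]]

/-- data for the prime 3 -/
def mPaths_three : List (List ℕ) :=
  [[], [0], [1], [0, 0], [1, 0], [1, 1],
   [1, 0, 0], [1, 1, 0], [1, 1, 0, 0]]

/-- data for the prime 3 -/
def mInvs_three : List ℕ :=
  [0, 3, 5, 1, 8, 2, 7, 6, 4]

/-- data for the prime 3 -/
def mWords_three : List (List ℕ) :=
  [[0, 0, 0], [1, 1, 1], [0, 1, 0, 1, 0, 1],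
   [1, 1, 0, 0, 1, 0]]

/-- data for the prime 3 -/
def mE_three : List (List (List ℤ)) :=
  [[[0, 0, 0, 0], [0, 0, 0, 0], [0, 0, 1, -1], [1, 0, 0, 0],
   [0, 0, 1, -1], [-1, -1, 0, 1], [1, 0, 1, -1], [-1, -1, 0, 1],
   [0, -1, 0, 1]],
   [[0, 0, 0, 0], [0, 0, 0, 0], [0, 0, 0, 0], [0, 0, 0, 0],
   [0, 0, 0, 0], [0, 1, 0, 0], [0, 0, 0, 0], [0, 1, 0, 0],
   [0, 1, 0, 0]]]

/-- data for the prime 3 -/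
def mTree_three : List (ℕ × ℕ) :=
  [(0, 0), (1, 0), (0, 1), (1, 1), (1, 2), (1, 3), (1, 4), (1, 6)]

/-- data for the prime 3 -/
def mCert_three : List (ℕ × ℕ × ℕ) :=
  [(0, 0, 0), (1, 0, 0), (1, 1, 0), (1, 3, 0), (3, 5, 5), (3, 7, 5), (3, 8, 5), (2, 0, 4),
   (2, 1, 4), (2, 2, 0)]

/-- data for the prime 3 -/
def mRels_three : List Rel :=
  [.loop 0 2, .loop 3 0]

/-- data for the prime 3 -/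
def mConj_three : List ℕ :=
  [0,
   0]

/-- the table for the prime 3 -/
def sylTab_three : Tab where
  k := 2
  N := 9
  d := 4
  tab j i := (mTabs_three.getD j []).getD i 0
  path t := mPaths_three.getD t []
  invOf t := mInvs_three.getD t 0
  word i := mWords_three.getD i []
  E j i := (mE_three.getD j []).getD i []
  tree := mTree_three
  cert := mCert_three

/-- the lattice certificate for the prime 3 -/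
def latCert_three : LatCert where
  rels := mRels_three
  n := 3
  D := 9
  A c j := (([[3, 0], [0, 3]] : List (List ℤ)).getD c []).getD j 0
  gen := [0, 0, 1, -1]
  mu0 l := ([1, 0] : List ℤ).getD l 0
  P c := ([[1, 0, 0, 0], [0, 1, 0, 0]] : List (List ℤ)).getD c []
  Y i c := (([[1, 0], [0, 1], [1, 1], [1, 1]] : List (List ℤ)).getD i []).getD c 0
  q i := ([0, 0, 3, 2] : List ℤ).getD i 0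
  mu i l := (([[0, 0], [0, 0], [0, -1], [0, -1]] : List (List ℤ)).getD i []).getD l 0

end CfsgLib.M22
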