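import Cfsg.Agent.Lib.M22.Cover
import Cfsg.Agent.Lib.M22.MultData
import Cfsg.Agent.Lib.Schur.CyclicBound
import Cfsg.Agent.Lib.Golay.Mult.Odd

/-!
The multiplier of M22: the kernels of stem extensions are cyclic of order dividing twelve.
-/

set_option autoImplicit false
set_option maxRecDepth 100000
set_option linter.style.haveILetI false

namespace CfsgLib.M22

open Cfsg CfsgLib.Golay CfsgLib.Golay.SylowTwo CfsgLib.Golay.Mult CfsgLib.Schur
open CfsgLib.Schur.LinTable
open scoped commutatorElement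

attribute [local irreducible] idP toPerm mulP validP

/-- The packed element of a word. -/
def synP (gs : List ℕ) (w : List ℕ) : ℕ := Golay.Mult.prodP (w.map fun j => gs.getD j idP)

/-- The checks tying a table to the group. -/
noncomputable def groupChk (T : Tab) (C : LatCert) (gs conj : List ℕ) (M : ℕ) : Bool :=
  (List.range 8).all (fun j => inG (gs.getD j idP) || decide (T.k ≤ j)) &&
  decide (T.k ≤ 8) && decide (T.N * M = 443520) &&
  (List.range T.d).all (fun i => (T.word i).all (fun j => decide (j < T.k)) &&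
    eqP (synP gs (T.word i)) idP) &&
  (List.range T.N).all (fun a => (List.range a).all fun b =>
    !eqP (synP gs (T.path a)) (synP gs (T.path b))) &&
  (List.range C.rels.length).all (fun l => match C.rels.getD l (.loop 0 0) with
    | .loop _ _ => true
    | .pair a b a' b' => inG (conj.getD l idP) && decide (a < T.N) && decide (b < T.N) &&
        decide (a' < T.N) && decide (b' < T.N) &&
        eqP (mulP (conj.getD l idP) (synP gs (T.path a))) (mulP (synP gs (T.path a')) (conj.getD l idP)) &&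
        eqP (mulP (conj.getD l idP) (synP gs (T.path b))) (mulP (synP gs (T.path b')) (conj.getD l idP)))

/-- The bound given by a table. -/
theorem bound_of_table {T : Tab} {C : LatCert} {gs conj : List ℕ} {M ℓ : ℕ} (hok : T.ok = true)
    (hC : T.latOK C = true) (hchk : groupChk T C gs conj M = true) (hM : ¬ ℓ ∣ M)
    {Γ : Type} [Group Γ] [Finite Γ] (σ : Γ →* ↥G22) (hσ : IsStemExtension σ) :
    ∃ U : Subgroup ↥G22, ¬ ℓ ∣ U.index ∧ ∃ w ∈ σ.ker, w ^ C.n = 1 ∧
      ∀ z ∈ σ.ker, z ∈ ⁅U.comap σ, U.comap σ⁆ → z ∈ Subgroup.zpowers w := by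
  simp only [groupChk, Bool.and_eq_true, decide_eq_true_eq, List.all_eq_true, List.mem_range,
    Bool.or_eq_true, Bool.not_eq_true'] at hchk
  obtain ⟨⟨⟨⟨⟨hgs, hk⟩, hNM⟩, hwords⟩, hdist⟩, hrels⟩ := hchk
  have hG : ∀ P, inG P = true → validP P = true ∧ toPerm P ∈ G22 := fun P h => inG_spec h
  let g : ℕ → ↥G22 := fun j => lift G22 (gs.getD j idP)
  have hspec : ∀ w : List ℕ, (∀ j ∈ w, j < T.k) → validP (synP gs w) = true ∧
      ((w.map g).prod : ↥G22).1 = toPerm (synP gs w) := by
    intro w hw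
    have h := prod_lift hG (w.map fun j => gs.getD j idP) (by
      rw [List.all_eq_true]
      intro P hP
      obtain ⟨j, hj, rfl⟩ := List.mem_map.1 hP
      exact (hgs j (by have := hw j hj; omega)).resolve_right (by have := hw j hj; omega))
    rw [List.map_map] at h
    exact h
  choose L hL using fun j => hσ.1 (g j)
  have hw : ∀ i < T.d, ((T.word i).map g).prod = 1 := fun i hi => Subtype.ext (by
    obtain ⟨hv, he⟩ := hspec _ (hwords i hi).1
    rw [he, toPerm_eq_of_eqP hv validP_idP (hwords i hi).2, toPerm_idP, Subgroup.coe_one])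
  obtain ⟨⟨hN, hp0⟩, -, hel⟩ := Tab.facts hok hσ.2.1 hL hw
  have helt : ∀ t < T.N, validP (synP gs (T.path t)) = true ∧
      ((T.elt g t : ↥G22) : Equiv.Perm GolayPt) = toPerm (synP gs (T.path t)) :=
    fun t ht => hspec _ (hel t ht).1
  have hinj : ∀ a < T.N, ∀ b < T.N, T.elt g a = T.elt g b → a = b := by
    suffices h : ∀ a < T.N, ∀ b < a, T.elt g a ≠ T.elt g b by
      intro a ha b hb e
      rcases Nat.lt_trichotomy a b with hab | hab | hab
      · exact absurd e.symm (h b hb a hab)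
      · exact hab
      · exact absurd e (h a ha b hab)
    intro a ha b hb e
    have e' := congrArg Subtype.val e
    rw [(helt a ha).2, (helt b (by omega)).2] at e'
    have := eqP_of_toPerm_eq (helt a ha).1 (helt b (by omega)).1 e'
    rw [hdist a ha b hb] at this
    exact absurd this (by simp)
  set U : Subgroup ↥G22 := Subgroup.closure {e | ∃ j < T.k, e = g j}
  have hU := Tab.closure_eq hok hσ.1 hσ.2.1 hw
  refine ⟨U, ?_, Tab.exists_bound hok C hC σ hσ.1 hσ.2.1 g hw
    (fun t ht e => hinj t ht 0 hN (by rw [e, Tab.elt, hp0]; rfl)) ?_ U hU⟩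
  · have hmem : ∀ t < T.N, T.elt g t ∈ U := fun t ht => list_prod_mem fun y hy => by
      obtain ⟨j, hj, rfl⟩ := List.mem_map.1 hy
      exact Subgroup.subset_closure ⟨j, (hel t ht).1 j hj, rfl⟩
    have hcard : Nat.card U = T.N := by
      rw [← Nat.card_fin T.N]
      refine (Nat.card_eq_of_bijective (fun t : Fin T.N => (⟨_, hmem t t.2⟩ : U)) ⟨?_, ?_⟩).symm
      · intro a b e
        exact Fin.ext (hinj _ a.2 _ b.2 (congrArg Subtype.val e))
      · rintro ⟨x, hx⟩
        obtain ⟨t, ht, rfl⟩ := hU x hx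
        exact ⟨⟨t, ht⟩, rfl⟩
    have h := U.card_mul_index
    rw [natCard_fix22, hcard, ← hNM] at h
    rw [Nat.eq_of_mul_eq_mul_left hN h]
    exact hM
  · intro a b a' b' hm
    obtain ⟨l, hl, he⟩ := List.getElem_of_mem hm
    have h := hrels l hl
    rw [List.getD_eq_getElem?_getD, List.getElem?_eq_getElem hl, Option.getD_some, he] at h
    simp only [Bool.and_eq_true, decide_eq_true_eq] at h
    obtain ⟨⟨⟨⟨⟨⟨hh, ha⟩, hb⟩, ha'⟩, hb'⟩, e1⟩, e2⟩ := h
    refine ⟨lift G22 (conj.getD l idP), ?_, ?_⟩ <;> apply Subtype.ext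
    · rw [Subgroup.coe_mul, Subgroup.coe_mul, lift_val hG hh, (helt a ha).2, (helt a' ha').2,
        ← toPerm_mulP (hG _ hh).1 (helt a ha).1, ← toPerm_mulP (helt a' ha').1 (hG _ hh).1]
      exact toPerm_eq_of_eqP (validP_mulP (hG _ hh).1 (helt a ha).1)
        (validP_mulP (helt a' ha').1 (hG _ hh).1) e1
    · rw [Subgroup.coe_mul, Subgroup.coe_mul, lift_val hG hh, (helt b hb).2, (helt b' hb').2,
        ← toPerm_mulP (hG _ hh).1 (helt b hb).1, ← toPerm_mulP (helt b' hb').1 (hG _ hh).1]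
      exact toPerm_eq_of_eqP (validP_mulP (hG _ hh).1 (helt b hb).1)
        (validP_mulP (helt b' hb').1 (hG _ hh).1) e2

theorem tabTwo_ok : sylTab_two.ok = true := by decide +kernel
theorem latTwo_ok : sylTab_two.latOK latCert_two = true := by decide +kernel
theorem groupTwo_ok : groupChk sylTab_two latCert_two mGens_two mConj_two 3465 = true := by
  decide +kernel
theorem tabThree_ok : sylTab_three.ok = true := by decide +kernel
theorem latThree_ok : sylTab_three.latOK latCert_three = true := by decide +kernel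
theorem groupThree_ok : groupChk sylTab_three latCert_three mGens_three mConj_three 49280 = true := by
  decide +kernel

/-- The kernel of a stem extension is cyclic of order dividing twelve. -/
theorem ker_cyclic {Γ : Type} [Group Γ] [Finite Γ] (σ : Γ →* ↥G22) (hσ : IsStemExtension σ) :
    ∃ z ∈ σ.ker, z ^ 12 = 1 ∧ σ.ker ≤ Subgroup.zpowers z := by
  obtain ⟨U2, hU2, a, ha, ha4, ha'⟩ :=
    bound_of_table (ℓ := 2) tabTwo_ok latTwo_ok groupTwo_ok (by norm_num) σ hσ
  obtain ⟨U3, hU3, b, hb, hb3, hb'⟩ :=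
    bound_of_table (ℓ := 3) tabThree_ok latThree_ok groupThree_ok (by norm_num) σ hσ
  change a ^ 4 = 1 at ha4
  change b ^ 3 = 1 at hb3
  have hab : Commute a b := (Subgroup.mem_center_iff.1 (hσ.2.1 ha) b).symm
  have ea : a = (a * b) ^ 9 := by
    rw [hab.mul_pow, show b ^ 9 = 1 by rw [show (9 : ℕ) = 3 * 3 by rfl, pow_mul, hb3, one_pow],
      mul_one, show (9 : ℕ) = 4 * 2 + 1 by rfl, pow_succ, pow_mul, ha4, one_pow, one_mul]
  have eb : b = (a * b) ^ 4 := by
    rw [hab.mul_pow, ha4, one_mul, show (4 : ℕ) = 3 + 1 by rfl, pow_succ, hb3, one_mul]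
  refine ⟨a * b, mul_mem ha hb, ?_, CyclicBound.ker_le_zpowers hσ (a * b) fun ℓ hℓ => ?_⟩
  · rw [hab.mul_pow, show (12 : ℕ) = 4 * 3 by rfl, pow_mul, ha4, one_pow, one_mul, mul_comm 4 3,
      pow_mul, hb3, one_pow]
  by_cases h2 : ℓ = 2
  · subst h2
    refine ⟨U2, hU2, fun z hz hzd => Subgroup.zpowers_le.2 ?_ (ha' z hz hzd)⟩
    exact Subgroup.mem_zpowers_iff.2 ⟨(9 : ℕ), by rw [zpow_natCast]; exact ea.symm⟩
  by_cases h3 : ℓ = 3
  · subst h3
    refine ⟨U3, hU3, fun z hz hzd => Subgroup.zpowers_le.2 ?_ (hb' z hz hzd)⟩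
    exact Subgroup.mem_zpowers_iff.2 ⟨(4 : ℕ), by rw [zpow_natCast]; exact eb.symm⟩
  -- the remaining Sylow subgroups are cyclic
  haveI := Fact.mk hℓ
  have hnd : ¬ ℓ ^ 2 ∣ Nat.card ↥G22 := by
    rw [natCard_fix22]
    intro hd
    have hle := Nat.le_of_dvd (by norm_num) hd
    have hlt : ℓ < 666 := by nlinarith
    have hall : ∀ m < 666, m * m ∣ 443520 → m = 1 ∨ 2 ∣ m ∨ 3 ∣ m := by decide +kernel
    rcases hall ℓ hlt (by rwa [← sq]) with h | h | h
    · exact hℓ.one_lt.ne' h
    · exact h2 ((Nat.prime_dvd_prime_iff_eq Nat.prime_two hℓ).1 h).symm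
    · exact h3 ((Nat.prime_dvd_prime_iff_eq Nat.prime_three hℓ).1 h).symm
  refine ⟨(default : Sylow ℓ ↥G22), Sylow.not_dvd_index _, fun z hz hzd => ?_⟩
  have hP := (default : Sylow ℓ ↥G22).card_eq_multiplicity
  haveI : IsCyclic ((default : Sylow ℓ ↥G22) : Subgroup ↥G22) := by
    have hle : (Nat.card ↥G22).factorization ℓ ≤ 1 := by
      by_contra hc
      exact hnd ((pow_dvd_pow ℓ (by omega)).trans (Nat.ordProj_dvd _ ℓ))
    interval_cases hf : (Nat.card ↥G22).factorization ℓ
    · rw [pow_zero] at hP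
      have : Subsingleton ((default : Sylow ℓ ↥G22) : Subgroup ↥G22) :=
        (Nat.card_eq_one_iff_unique.1 hP).1
      exact isCyclic_of_subsingleton
    · rw [pow_one] at hP
      exact isCyclic_of_prime_card hP
  rw [preimage_commutator_eq_bot_of_isCyclic σ hσ.2.1] at hzd
  rw [Subgroup.mem_bot.1 hzd]
  exact one_mem _

/-- The multiplier of the fixer of two points is cyclic of order twelve. -/
theorem multiplier_fix22 : HasCyclicSchurMultiplier ↥G22 12 := by
  refine ⟨exists_cover, fun Γ _ _ σ hσ => ?_⟩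
  obtain ⟨z, hz, h12, hle⟩ := ker_cyclic σ hσ
  exact CyclicBound.exists_surjection hz h12 hle

end CfsgLib.M22
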